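import Mathlib
import Groth.Agent.Lib.Helper3.InvGen
import Groth.Agent.Lib.Helper3.CocycleGlue
import Groth.Agent.Lib.Helper3.Cocycle
import Groth.Agent.Lib.Helper3.PbBasic
import Groth.Agent.Lib.Helper26.ExtGlue

/-!
# Descending invertible modules along a morphism via cocycles (helper16)
-/

set_option autoImplicit false
universe u
open CategoryTheory CategoryTheory.Limits AlgebraicGeometry TopologicalSpace Opposite
open Scheme.Modules

namespace H16PicDesc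

open Groth.Agent.Lib.Helper3 Groth.Agent.Lib.Helper3.QCSec Groth.Agent.Lib.Helper3.InvGen
  Groth.Agent.Lib.Helper3.PbBasic

variable {X Y : Scheme.{u}}

theorem app_rres (f : X ⟶ Y) {Q Q' : Y.Opens} (h : Q' ≤ Q) (x : Γ(Y, Q)) :
    (f.app Q').hom (rres Y h x) = rres X (f.preimage_mono h) ((f.app Q).hom x) := by
  have := f.naturality (homOfLE h).op
  exact congr($this x)

/-- Descent from a unit cocycle on the base. -/
theorem exists_descent (f : X ⟶ Y) (L : X.Modules) {ι : Type u} (N : ι → Y.Opens)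
    (hN : iSup N = ⊤)
    (g : ∀ a, Γ(L, f ⁻¹ᵁ N a)) (hg : ∀ a, IsGen L (f ⁻¹ᵁ N a) (g a))
    (η : ∀ a b, (Γ(Y, N a ⊓ N b))ˣ)
    (hη : ∀ a b c,
      rres Y (inf_le_inf_right (N c) inf_le_left : N a ⊓ N b ⊓ N c ≤ N a ⊓ N c)
          (η a c : Γ(Y, N a ⊓ N c)) =
        rres Y (inf_le_left : N a ⊓ N b ⊓ N c ≤ N a ⊓ N b) (η a b : Γ(Y, N a ⊓ N b)) *
          rres Y (inf_le_inf_right (N c) inf_le_right : N a ⊓ N b ⊓ N c ≤ N b ⊓ N c)
            (η b c : Γ(Y, N b ⊓ N c)))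
    (hcompat : ∀ a b,
      res L (f.preimage_mono inf_le_left : f ⁻¹ᵁ (N a ⊓ N b) ≤ f ⁻¹ᵁ N a) (g a) =
        ((f.app (N a ⊓ N b)).hom (η a b : Γ(Y, N a ⊓ N b))) •
          res L (f.preimage_mono inf_le_right : f ⁻¹ᵁ (N a ⊓ N b) ≤ f ⁻¹ᵁ N b) (g b)) :
    ∃ M : Y.Modules, PicF.IsInvertible M ∧
      Nonempty ((Scheme.Modules.pullback f).obj M ≅ L) := by
  obtain ⟨M, s, hM, hs, hrel⟩ := CocycleGlue.main N η hη hN
  refine ⟨M, hM, ?_⟩
  let V : ι → X.Opens := fun a => f ⁻¹ᵁ N a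
  have hV : iSup V = ⊤ := by
    rw [eq_top_iff]
    intro x _
    have hy : f x ∈ (iSup N : Y.Opens) := by rw [hN]; trivial
    obtain ⟨a, ha⟩ := Opens.mem_iSup.mp hy
    exact Opens.mem_iSup.mpr ⟨a, ha⟩
  let s' : ∀ a, Γ((Scheme.Modules.pullback f).obj M, V a) := fun a => pull f M (N a) (s a)
  have hs' : ∀ a, IsGen ((Scheme.Modules.pullback f).obj M) (V a) (s' a) :=
    fun a => isGen_pull f (hs a)
  let θ : ∀ a b, Γ(X, V a ⊓ V b) := fun a b =>
    (f.app (N a ⊓ N b)).hom (η a b : Γ(Y, N a ⊓ N b))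
  have hθ' : ∀ a b,
      res ((Scheme.Modules.pullback f).obj M) (inf_le_left : V a ⊓ V b ≤ V a) (s' a) =
        θ a b • res ((Scheme.Modules.pullback f).obj M) (inf_le_right : V a ⊓ V b ≤ V b) (s' b) := by
    intro a b
    have h1 := congrArg (pull f M (N a ⊓ N b)) (hrel a b)
    rw [pull_smul, ← res_pull, ← res_pull] at h1
    exact h1
  have hcompat' : ∀ a b, res L (inf_le_left : V a ⊓ V b ≤ V a) (g a) =
      θ a b • res L (inf_le_right : V a ⊓ V b ≤ V b) (g b) := fun a b => hcompat a b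
  exact Cocycle.nonempty_iso_of_units V hV s' g hs' hg θ θ hθ' hcompat' (fun _ => 1) (by
    intro a b
    simp only [Units.val_one]
    rw [rres_one, rres_one, mul_one, one_mul])

/-- Descent from charts on which functions descend uniquely. -/
theorem exists_descent_of_charts (f : X ⟶ Y) (L : X.Modules)
    {C : Type u} (N : C → Y.Opens) (hN : iSup N = ⊤) (G : ∀ c, Γ(L, f ⁻¹ᵁ N c))
    (hGgen : ∀ c, IsGen L (f ⁻¹ᵁ N c) (G c))
    (key2 : ∀ a b, a = b ∨ Function.Bijective (f.app (N a ⊓ N b)).hom)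
    (key3 : ∀ a b c, (a = b ∧ b = c) ∨ Function.Injective (f.app (N a ⊓ N b ⊓ N c)).hom) :
    ∃ M : Y.Modules, PicF.IsInvertible M ∧
      Nonempty ((Scheme.Modules.pullback f).obj M ≅ L) := by
  classical
  have hl : ∀ a b, f ⁻¹ᵁ (N a ⊓ N b) ≤ f ⁻¹ᵁ N a := fun a b => f.preimage_mono inf_le_left
  have hr' : ∀ a b, f ⁻¹ᵁ (N a ⊓ N b) ≤ f ⁻¹ᵁ N b := fun a b => f.preimage_mono inf_le_right
  have hrat : ∀ a b, ∃ r : Γ(X, f ⁻¹ᵁ (N a ⊓ N b)), IsUnit r ∧
      res L (hl a b) (G a) = r • res L (hr' a b) (G b) :=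
    fun a b => (hGgen b _ (hr' a b)).exists_unit (hGgen a _ (hl a b))
  choose r hr_unit hr_eq using hrat
  have hr_self : ∀ a, r a a = 1 := by
    intro a
    apply (hGgen a _ (hr' a a)).smul_inj
    rw [one_smul]
    exact (hr_eq a a).symm
  have hr_coc : ∀ a b c,
      rres X (f.preimage_mono (inf_le_inf_right (N c) inf_le_left) :
          f ⁻¹ᵁ (N a ⊓ N b ⊓ N c) ≤ f ⁻¹ᵁ (N a ⊓ N c)) (r a c) =
        rres X (f.preimage_mono inf_le_left :
            f ⁻¹ᵁ (N a ⊓ N b ⊓ N c) ≤ f ⁻¹ᵁ (N a ⊓ N b)) (r a b) *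
          rres X (f.preimage_mono (inf_le_inf_right (N c) inf_le_right) :
            f ⁻¹ᵁ (N a ⊓ N b ⊓ N c) ≤ f ⁻¹ᵁ (N b ⊓ N c)) (r b c) := by
    intro a b c
    have t1 : f ⁻¹ᵁ (N a ⊓ N b ⊓ N c) ≤ f ⁻¹ᵁ (N a ⊓ N c) :=
      f.preimage_mono (inf_le_inf_right (N c) inf_le_left)
    have t2 : f ⁻¹ᵁ (N a ⊓ N b ⊓ N c) ≤ f ⁻¹ᵁ (N a ⊓ N b) := f.preimage_mono inf_le_left
    have t3 : f ⁻¹ᵁ (N a ⊓ N b ⊓ N c) ≤ f ⁻¹ᵁ (N b ⊓ N c) :=
      f.preimage_mono (inf_le_inf_right (N c) inf_le_right)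
    have e1 := congrArg (res L t1) (hr_eq a c)
    have e2 := congrArg (res L t2) (hr_eq a b)
    have e3 := congrArg (res L t3) (hr_eq b c)
    rw [res_smul, res_res, res_res] at e1 e2 e3
    have hgenT := hGgen c (f ⁻¹ᵁ (N a ⊓ N b ⊓ N c)) (t1.trans (hr' a c))
    apply hgenT.smul_inj
    rw [mul_smul]
    exact e1.symm.trans (e2.trans (congrArg _ e3))
  have hη_ex : ∀ a b, ∃ η : (Γ(Y, N a ⊓ N b))ˣ,
      (f.app (N a ⊓ N b)).hom (η : Γ(Y, N a ⊓ N b)) = r a b ∧ (a = b → η = 1) := by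
    intro a b
    rcases key2 a b with h | h
    · subst h
      exact ⟨1, by rw [Units.val_one, map_one, hr_self], fun _ => rfl⟩
    · obtain ⟨x, hx⟩ := h.2 (r a b)
      obtain ⟨y, hy⟩ := h.2 (((hr_unit a b).unit⁻¹ : (Γ(X, f ⁻¹ᵁ (N a ⊓ N b)))ˣ) :
        Γ(X, f ⁻¹ᵁ (N a ⊓ N b)))
      have hxy : x * y = 1 := h.1 (by
        rw [map_mul, hx, hy, map_one]; exact IsUnit.mul_val_inv _)
      refine ⟨⟨x, y, hxy, by rw [mul_comm]; exact hxy⟩, hx, ?_⟩
      intro hab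
      subst hab
      apply Units.ext
      apply h.1
      show (f.app (N a ⊓ N a)).hom x = (f.app (N a ⊓ N a)).hom ((1 : (Γ(Y, N a ⊓ N a))ˣ) : _)
      rw [hx, hr_self, Units.val_one, map_one]
  choose η hη_eq hη_one using hη_ex
  have hη_coc : ∀ a b c,
      rres Y (inf_le_inf_right (N c) inf_le_left : N a ⊓ N b ⊓ N c ≤ N a ⊓ N c)
          (η a c : Γ(Y, N a ⊓ N c)) =
        rres Y (inf_le_left : N a ⊓ N b ⊓ N c ≤ N a ⊓ N b) (η a b : Γ(Y, N a ⊓ N b)) *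
          rres Y (inf_le_inf_right (N c) inf_le_right : N a ⊓ N b ⊓ N c ≤ N b ⊓ N c)
            (η b c : Γ(Y, N b ⊓ N c)) := by
    intro a b c
    rcases key3 a b c with ⟨hab, hbc⟩ | hinj
    · rw [hη_one a b hab, hη_one b c hbc, hη_one a c (hab.trans hbc)]
      simp only [Units.val_one]
      rw [rres_one, rres_one, rres_one, mul_one]
    · apply hinj
      rw [map_mul, app_rres, app_rres, app_rres, hη_eq, hη_eq, hη_eq]
      exact hr_coc a b c
  have hcompat : ∀ a b, res L (hl a b) (G a) =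
      ((f.app (N a ⊓ N b)).hom (η a b : Γ(Y, N a ⊓ N b))) • res L (hr' a b) (G b) := by
    intro a b
    rw [hη_eq]
    exact hr_eq a b
  exact exists_descent f L N hN G hGgen η hη_coc hcompat

/-- Descent using a reference trivialisation over a big open `U`, and units on the punctured
charts comparing the chart generators with the reference generator. -/
theorem exists_descent_of_ref (f : X ⟶ Y) (L : X.Modules) (U : Y.Opens)
    (γ₀ : Γ(L, f ⁻¹ᵁ U)) (hγ₀ : IsGen L (f ⁻¹ᵁ U) γ₀)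
    {C : Type u} (P : C → Y.Opens) (γ : ∀ c, Γ(L, f ⁻¹ᵁ P c))
    (hγ : ∀ c, IsGen L (f ⁻¹ᵁ P c) (γ c))
    (hcov : ∀ y : Y, y ∈ U ∨ ∃ c, y ∈ P c)
    (hpair : ∀ c c', c ≠ c' → P c ⊓ P c' ≤ U)
    (H : ∀ c, (Γ(Y, P c ⊓ U))ˣ)
    (hH : ∀ c, (f.app (P c ⊓ U)).hom (H c : Γ(Y, P c ⊓ U)) •
        res L (f.preimage_mono inf_le_left : f ⁻¹ᵁ (P c ⊓ U) ≤ f ⁻¹ᵁ P c) (γ c) =
      res L (f.preimage_mono inf_le_right : f ⁻¹ᵁ (P c ⊓ U) ≤ f ⁻¹ᵁ U) γ₀) :
    ∃ M : Y.Modules, PicF.IsInvertible M ∧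
      Nonempty ((Scheme.Modules.pullback f).obj M ≅ L) := by
  classical
  let N : Option C → Y.Opens := fun a => Option.elim a U P
  let G : ∀ a : Option C, Γ(L, f ⁻¹ᵁ N a) := fun a =>
    Option.rec (motive := fun a => Γ(L, f ⁻¹ᵁ N a)) γ₀ (fun c => γ c) a
  have hG : ∀ a, IsGen L (f ⁻¹ᵁ N a) (G a) := by
    rintro (_ | c)
    · exact hγ₀
    · exact hγ c
  let K : ∀ a : Option C, (Γ(Y, N a ⊓ U))ˣ := fun a =>
    Option.rec (motive := fun a => (Γ(Y, N a ⊓ U))ˣ) (1 : (Γ(Y, U ⊓ U))ˣ) (fun c => H c) a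
  have hK : ∀ a, (f.app (N a ⊓ U)).hom (K a : Γ(Y, N a ⊓ U)) •
      res L (f.preimage_mono inf_le_left : f ⁻¹ᵁ (N a ⊓ U) ≤ f ⁻¹ᵁ N a) (G a) =
      res L (f.preimage_mono inf_le_right : f ⁻¹ᵁ (N a ⊓ U) ≤ f ⁻¹ᵁ U) γ₀ := by
    rintro (_ | c)
    · show (f.app (U ⊓ U)).hom ((1 : (Γ(Y, U ⊓ U))ˣ) : Γ(Y, U ⊓ U)) •
        res L (f.preimage_mono inf_le_left : f ⁻¹ᵁ (U ⊓ U) ≤ f ⁻¹ᵁ U) γ₀ =
        res L (f.preimage_mono inf_le_right : f ⁻¹ᵁ (U ⊓ U) ≤ f ⁻¹ᵁ U) γ₀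
      rw [Units.val_one, map_one, one_smul]
    · exact hH c
  have hNpair : ∀ a b, a ≠ b → N a ⊓ N b ≤ U := by
    rintro (_ | c) (_ | c') hab
    · exact (hab rfl).elim
    · exact inf_le_left
    · exact inf_le_right
    · exact hpair c c' (fun e => hab (congrArg some e))
  have hNcov : iSup N = ⊤ := by
    rw [eq_top_iff]
    intro z _
    rcases hcov z with hz | ⟨c, hz⟩
    · exact Opens.mem_iSup.mpr ⟨none, hz⟩
    · exact Opens.mem_iSup.mpr ⟨some c, hz⟩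
  have hA : ∀ a b, a ≠ b → N a ⊓ N b ≤ N a ⊓ U :=
    fun a b hab => le_inf inf_le_left (hNpair a b hab)
  have hB : ∀ a b, a ≠ b → N a ⊓ N b ≤ N b ⊓ U :=
    fun a b hab => le_inf inf_le_right (hNpair a b hab)
  have hu : ∀ a b (hab : a ≠ b), IsUnit (rres Y (hA a b hab) (K a : Γ(Y, N a ⊓ U))) :=
    fun a b hab => rres_isUnit _ (K a).isUnit
  have hu' : ∀ a b (hab : a ≠ b), IsUnit (rres Y (hB a b hab) (K b : Γ(Y, N b ⊓ U))) :=
    fun a b hab => rres_isUnit _ (K b).isUnit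
  let η : ∀ a b : Option C, (Γ(Y, N a ⊓ N b))ˣ := fun a b =>
    if hab : a = b then 1 else (hu' a b hab).unit * ((hu a b hab).unit)⁻¹
  have key : ∀ (a b : Option C) (T : Y.Opens) (hTa : T ≤ N a) (hTb : T ≤ N b) (hTU : T ≤ U),
      rres Y (le_inf hTa hTb) (η a b : Γ(Y, N a ⊓ N b)) *
          rres Y (le_inf hTa hTU) (K a : Γ(Y, N a ⊓ U)) =
        rres Y (le_inf hTb hTU) (K b : Γ(Y, N b ⊓ U)) := by
    intro a b T hTa hTb hTU
    by_cases hab : a = b
    · subst hab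
      have h1 : η a a = 1 := dif_pos rfl
      rw [h1, Units.val_one, rres_one, one_mul]
    · have h1 : η a b = (hu' a b hab).unit * ((hu a b hab).unit)⁻¹ := dif_neg hab
      have h2 : (η a b : Γ(Y, N a ⊓ N b)) * rres Y (hA a b hab) (K a : Γ(Y, N a ⊓ U)) =
          rres Y (hB a b hab) (K b : Γ(Y, N b ⊓ U)) := by
        rw [h1, Units.val_mul, mul_assoc, IsUnit.val_inv_mul, mul_one, IsUnit.unit_spec]
      have h3 := congrArg (rres Y (le_inf hTa hTb)) h2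
      rwa [rres_mul, rres_rres, rres_rres] at h3
  have hη : ∀ a b c : Option C,
      rres Y (inf_le_inf_right (N c) inf_le_left : N a ⊓ N b ⊓ N c ≤ N a ⊓ N c)
          (η a c : Γ(Y, N a ⊓ N c)) =
        rres Y (inf_le_left : N a ⊓ N b ⊓ N c ≤ N a ⊓ N b) (η a b : Γ(Y, N a ⊓ N b)) *
          rres Y (inf_le_inf_right (N c) inf_le_right : N a ⊓ N b ⊓ N c ≤ N b ⊓ N c)
            (η b c : Γ(Y, N b ⊓ N c)) := by
    intro a b c
    by_cases hall : a = b ∧ b = c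
    · obtain ⟨rfl, rfl⟩ := hall
      have h1 : η a a = 1 := dif_pos rfl
      simp only [h1, Units.val_one, rres_one, mul_one]
    · have hTU : N a ⊓ N b ⊓ N c ≤ U := by
        by_cases hab : a = b
        · have hbc : b ≠ c := fun e => hall ⟨hab, e⟩
          exact (inf_le_inf_right (N c) inf_le_right).trans (hNpair b c hbc)
        · exact inf_le_left.trans (hNpair a b hab)
      have hTa : N a ⊓ N b ⊓ N c ≤ N a := inf_le_left.trans inf_le_left
      have hTb : N a ⊓ N b ⊓ N c ≤ N b := inf_le_left.trans inf_le_right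
      have hTc : N a ⊓ N b ⊓ N c ≤ N c := inf_le_right
      have huT : IsUnit (rres Y (le_inf hTa hTU) (K a : Γ(Y, N a ⊓ U))) :=
        rres_isUnit _ (K a).isUnit
      have k1 := key a c _ hTa hTc hTU
      have k2 := key a b _ hTa hTb hTU
      have k3 := key b c _ hTb hTc hTU
      change rres Y (le_inf hTa hTc) (η a c : Γ(Y, N a ⊓ N c)) =
        rres Y (le_inf hTa hTb) (η a b : Γ(Y, N a ⊓ N b)) *
          rres Y (le_inf hTb hTc) (η b c : Γ(Y, N b ⊓ N c))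
      apply (IsUnit.mul_left_inj huT).mp
      rw [k1, mul_comm (rres Y (le_inf hTa hTb) (η a b : Γ(Y, N a ⊓ N b))), mul_assoc, k2, k3]
  have hcompat : ∀ a b,
      res L (f.preimage_mono inf_le_left : f ⁻¹ᵁ (N a ⊓ N b) ≤ f ⁻¹ᵁ N a) (G a) =
        ((f.app (N a ⊓ N b)).hom (η a b : Γ(Y, N a ⊓ N b))) •
          res L (f.preimage_mono inf_le_right : f ⁻¹ᵁ (N a ⊓ N b) ≤ f ⁻¹ᵁ N b) (G b) := by
    intro a b
    by_cases hab : a = b
    · subst hab
      have h1 : η a a = 1 := dif_pos rfl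
      rw [h1, Units.val_one, map_one, one_smul]
    · have hTU := hNpair a b hab
      have e1 := congrArg (res L (f.preimage_mono (hA a b hab))) (hK a)
      have e2 := congrArg (res L (f.preimage_mono (hB a b hab))) (hK b)
      rw [res_smul, res_res, res_res, ← app_rres f (hA a b hab)] at e1
      rw [res_smul, res_res, res_res, ← app_rres f (hB a b hab)] at e2
      have k := key a b (N a ⊓ N b) inf_le_left inf_le_right hTU
      rw [rres_self] at k
      have hfu : IsUnit ((f.app (N a ⊓ N b)).hom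
          (rres Y (hA a b hab) (K a : Γ(Y, N a ⊓ U)))) := (hu a b hab).map _
      apply hfu.smul_left_cancel.mp
      rw [e1, ← e2, smul_smul, ← map_mul, mul_comm, k]
  exact exists_descent f L N hNcov G hG η hη hcompat

/-- A neighbourhood of `y` whose preimage lies in a given open containing the fibre. -/
theorem exists_nhd_preimage_le (f : X ⟶ Y) (hf : IsClosedMap f.base) (y : Y) (O : X.Opens)
    (hO : f.base ⁻¹' {y} ⊆ (O : Set X)) :
    ∃ P : Y.Opens, y ∈ P ∧ f ⁻¹ᵁ P ≤ O := by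
  have hcl : IsClosed (f.base '' (O : Set X)ᶜ) := hf _ O.isOpen.isClosed_compl
  refine ⟨⟨(f.base '' (O : Set X)ᶜ)ᶜ, hcl.isOpen_compl⟩, ?_, ?_⟩
  · rintro ⟨x, hxO, hxy⟩
    exact hxO (hO hxy)
  · intro x hx
    by_contra hxO
    exact hx ⟨x, hxO, rfl⟩

/-- Over a point with at most one preimage, an invertible module is trivial on the preimage of
a neighbourhood. -/
theorem exists_nhd_isGen_of_subsingleton (f : X ⟶ Y) (hf : IsClosedMap f.base) {L : X.Modules}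
    (hL : PicF.IsInvertible L) (y : Y)
    (hsub : ∀ x x' : X, f.base x = y → f.base x' = y → x = x') :
    ∃ (P : Y.Opens) (γ : Γ(L, f ⁻¹ᵁ P)), y ∈ P ∧ IsGen L (f ⁻¹ᵁ P) γ := by
  by_cases hex : ∃ x : X, f.base x = y
  · obtain ⟨x, hx⟩ := hex
    obtain ⟨O, e, hxO, hg⟩ := exists_isGen hL x
    obtain ⟨P, hyP, hPO⟩ := exists_nhd_preimage_le f hf y O (fun x' hx' => by
      have : x' = x := hsub x' x (Set.mem_singleton_iff.mp hx') hx
      rw [this]; exact hxO)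
    exact ⟨P, res L hPO e, hyP, hg.mono hPO⟩
  · obtain ⟨P, hyP, hPO⟩ := exists_nhd_preimage_le f hf y ⊥
      (fun x' hx' => (hex ⟨x', Set.mem_singleton_iff.mp hx'⟩).elim)
    have hbot : f ⁻¹ᵁ P = ⊥ := le_bot_iff.mp hPO
    exact ⟨P, 0, hyP, Groth.Agent.Lib.Helper26.ExtGlue.isGen_of_eq_bot L hbot 0⟩

theorem app_bijective_of_isIso (f : X ⟶ Y) (V : Y.Opens) [IsIso (f ∣_ V)] (W : Y.Opens)
    (hWV : W ≤ V) : Function.Bijective (f.app W).hom := by
  obtain ⟨W', rfl⟩ : ∃ W' : V.toScheme.Opens, V.ι ''ᵁ W' = W :=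
    ⟨V.ι ⁻¹ᵁ W, ι_image_preimage_of_le hWV⟩
  have hb : Function.Bijective ((f ∣_ V).app W').hom :=
    (ConcreteCategory.isIso_iff_bijective ((f ∣_ V).app W')).mp inferInstance
  rw [morphismRestrict_app] at hb
  have hm : Function.Injective
      (X.presheaf.map (eqToHom (image_morphismRestrict_preimage f V W')).op) :=
    (ConcreteCategory.bijective_of_isIso _).1
  constructor
  · intro a a' h
    apply hb.1
    exact congrArg (fun t => (X.presheaf.map
      (eqToHom (image_morphismRestrict_preimage f V W')).op).hom t) h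
  · intro b
    obtain ⟨a, ha⟩ := hb.2
      (X.presheaf.map (eqToHom (image_morphismRestrict_preimage f V W')).op b)
    exact ⟨a, hm ha⟩

theorem app_surjective_of_isClosedImmersion (f : X ⟶ Y) (V : Y.Opens)
    [IsClosedImmersion (f ∣_ V)] (W : Y.Opens) (hWV : W ≤ V) (hW : IsAffineOpen W) :
    Function.Surjective (f.app W).hom := by
  obtain ⟨W', rfl⟩ : ∃ W' : V.toScheme.Opens, V.ι ''ᵁ W' = W :=
    ⟨V.ι ⁻¹ᵁ W, ι_image_preimage_of_le hWV⟩
  have hW' : IsAffineOpen W' := V.ι.isAffineOpen_iff_of_isOpenImmersion.mp hW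
  have h1 := (f ∣_ V).app_surjective W' hW'
  rw [morphismRestrict_app] at h1
  intro b
  obtain ⟨a, ha⟩ := h1 (X.presheaf.map (eqToHom (image_morphismRestrict_preimage f V W')).op b)
  refine ⟨a, ?_⟩
  have hinj : Function.Injective
      (X.presheaf.map (eqToHom (image_morphismRestrict_preimage f V W')).op) :=
    (ConcreteCategory.bijective_of_isIso _).1
  apply hinj
  exact ha

theorem injOn_of_isClosedImmersion (f : X ⟶ Y) (V : Y.Opens)
    [IsClosedImmersion (f ∣_ V)] (x x' : X) (hx : f.base x ∈ V) (hxx' : f.base x = f.base x') :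
    x = x' := by
  have hx' : f.base x' ∈ V := hxx' ▸ hx
  have h1 : (f ∣_ V).base ⟨x, hx⟩ = (f ∣_ V).base ⟨x', hx'⟩ := by
    apply Subtype.ext
    rw [morphismRestrict_base_coe, morphismRestrict_base_coe]
    exact hxx'
  have h2 := (f ∣_ V).isClosedEmbedding.injective h1
  exact congrArg Subtype.val h2

end H16PicDesc
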