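import Mathlib
import Groth.Agent.Lib.Helper16.PicDesc.Descent
import Groth.Agent.Lib.Helper26.DiscExt
import Groth.Agent.Lib.Helper26.AmpleCurve
import Groth.Agent.Lib.Helper3.TrivFin

/-!
# Charts at bad points, unit lifting, and the main descent theorem (helper16)
-/

set_option autoImplicit false
universe u
open CategoryTheory CategoryTheory.Limits AlgebraicGeometry TopologicalSpace Opposite
open Scheme.Modules

namespace H16PicDesc

open Groth.Agent.Lib.Helper3 Groth.Agent.Lib.Helper3.QCSec Groth.Agent.Lib.Helper3.InvGen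
  Groth.Agent.Lib.Helper3.PbBasic
open Groth.Agent.Lib.Helper26 Groth.Agent.Lib.Helper26.DiscExt

variable {X Y : Scheme.{u}}

theorem ev_eq_zero_iff {D : Y.Opens} (z : Y) (hz : z ∈ D) (g : Γ(Y, D)) :
    (Y.evaluation D z hz).hom g = 0 ↔ z ∉ Y.basicOpen g :=
  Y.evaluation_eq_zero_iff_notMem_basicOpen z hz g

theorem ev_ne_zero_iff {D : Y.Opens} (z : Y) (hz : z ∈ D) (g : Γ(Y, D)) :
    (Y.evaluation D z hz).hom g ≠ 0 ↔ z ∈ Y.basicOpen g :=
  Y.evaluation_ne_zero_iff_mem_basicOpen z hz g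

/-- Separating functions for finitely many pairwise non-specialising points of an affine open. -/
theorem exists_sep {D : Y.Opens} (hD : IsAffineOpen D) (G : Finset Y)
    (hGD : ∀ z ∈ G, z ∈ D) (hinc : ∀ z ∈ G, ∀ z' ∈ G, z ⤳ z' → z = z') :
    ∃ e : Y → Γ(Y, D), ∀ z ∈ G, z ∈ Y.basicOpen (e z) ∧
      ∀ z' ∈ G, z' ≠ z → z' ∉ Y.basicOpen (e z) := by
  classical
  have key : ∀ z ∈ G, ∃ g : Γ(Y, D), z ∈ Y.basicOpen g ∧
      ∀ z' ∈ G, z' ≠ z → z' ∉ Y.basicOpen g := by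
    intro z hz
    have hcl : IsClosed (⋃ z' ∈ G.erase z, closure ({z'} : Set Y)) :=
      isClosed_biUnion_finset (fun _ _ => isClosed_closure)
    let O : Y.Opens := ⟨(⋃ z' ∈ G.erase z, closure ({z'} : Set Y))ᶜ, hcl.isOpen_compl⟩
    have hzO : z ∈ O := by
      show z ∉ (⋃ z' ∈ G.erase z, closure ({z'} : Set Y))
      intro hmem
      obtain ⟨z', hz', hzz'⟩ := Set.mem_iUnion₂.mp hmem
      have hz'G := Finset.mem_of_mem_erase hz'
      have hne := Finset.ne_of_mem_erase hz'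
      have hsp : z' ⤳ z := specializes_iff_mem_closure.mpr hzz'
      exact hne (hinc z' hz'G z hz hsp)
    obtain ⟨g, hgO, hzg⟩ := hD.exists_basicOpen_le (V := O) ⟨z, hzO⟩ (hGD z hz)
    refine ⟨g, hzg, fun z' hz' hne hz'g => ?_⟩
    have h1 : z' ∈ O := hgO hz'g
    exact h1 (Set.mem_iUnion₂.mpr ⟨z', Finset.mem_erase.mpr ⟨hne, hz'⟩, subset_closure rfl⟩)
  choose! e he using key
  exact ⟨e, he⟩

open Classical in
theorem eval_sum_sep {D : Y.Opens} (G : Finset Y) (e : Y → Γ(Y, D))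
    (he : ∀ z ∈ G, z ∈ Y.basicOpen (e z) ∧ ∀ z' ∈ G, z' ≠ z → z' ∉ Y.basicOpen (e z))
    (S : Finset Y) (hS : S ⊆ G) (c : Y → Γ(Y, D)) (z : Y) (hzG : z ∈ G) (hzD : z ∈ D) :
    (Y.evaluation D z hzD).hom (∑ s ∈ S, e s * c s) =
      if z ∈ S then (Y.evaluation D z hzD).hom (e z) * (Y.evaluation D z hzD).hom (c z)
      else 0 := by
  rw [map_sum]
  have hoff : ∀ s ∈ S, s ≠ z → (Y.evaluation D z hzD).hom (e s * c s) = 0 := by
    intro s hs hne
    rw [map_mul, (ev_eq_zero_iff z hzD (e s)).mpr ((he s (hS hs)).2 z hzG (Ne.symm hne)),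
      zero_mul]
  split_ifs with h
  · rw [Finset.sum_eq_single z (fun s hs hne => hoff s hs hne) (fun hnot => absurd h hnot),
      map_mul]
  · exact Finset.sum_eq_zero (fun s hs => hoff s hs (fun e' => h (e' ▸ hs)))

/-- Lifting a unit along a surjection `Γ(Y, D) → Γ(X, f⁻¹D)`, after shrinking around `y`. -/
theorem exists_unit_lift (f : X ⟶ Y) (U : Y.Opens) [QuasiCompact U.ι] (y : Y) (hyU : y ∉ U)
    {P : Y.Opens} (hP : IsAffineOpen P) (hyP : y ∈ P) (h : Γ(Y, P))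
    (hPh : Y.basicOpen h = P ⊓ U) (hiso : ∀ z ∈ P, z ∉ U → z = y)
    (hfin : {z : Y | z ⤳ y ∧ z ≠ y}.Finite)
    (hinc : ∀ z z' : Y, z ⤳ y → z ≠ y → z' ⤳ y → z' ≠ y → z ⤳ z' → z = z')
    (hsurj : Function.Surjective (f.app (Y.basicOpen h)).hom)
    (θ : (Γ(X, f ⁻¹ᵁ Y.basicOpen h))ˣ) :
    ∃ (P' : Y.Opens) (hle : P' ⊓ U ≤ Y.basicOpen h) (H : (Γ(Y, P' ⊓ U))ˣ), y ∈ P' ∧ P' ≤ P ∧
      (f.app (P' ⊓ U)).hom (H : Γ(Y, P' ⊓ U)) =
        rres X (f.preimage_mono hle) (θ : Γ(X, f ⁻¹ᵁ Y.basicOpen h)) := by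
  classical
  have hD : IsAffineOpen (Y.basicOpen h) := hP.basicOpen h
  let G : Finset Y := hfin.toFinset
  have hG : ∀ z, z ∈ G ↔ (z ⤳ y ∧ z ≠ y) := fun z => hfin.mem_toFinset
  have hGD : ∀ z ∈ G, z ∈ Y.basicOpen h := by
    intro z hz
    obtain ⟨hzy, hne⟩ := (hG z).mp hz
    have hzP : z ∈ P := hzy.mem_open P.isOpen hyP
    have hzU : z ∈ U := by
      by_contra hzU
      exact hne (hiso z hzP hzU)
    rw [hPh]
    exact ⟨hzP, hzU⟩
  have hincG : ∀ z ∈ G, ∀ z' ∈ G, z ⤳ z' → z = z' := fun z hz z' hz' hh =>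
    hinc z z' ((hG z).mp hz).1 ((hG z).mp hz).2 ((hG z').mp hz').1 ((hG z').mp hz').2 hh
  obtain ⟨e, he⟩ := exists_sep hD G hGD hincG
  obtain ⟨a, ha⟩ := hsurj (θ : Γ(X, f ⁻¹ᵁ Y.basicOpen h))
  obtain ⟨b, hb⟩ := hsurj ((θ⁻¹ : (Γ(X, f ⁻¹ᵁ Y.basicOpen h))ˣ) : Γ(X, f ⁻¹ᵁ Y.basicOpen h))
  let S : Finset Y := G.filter (fun z => z ∉ Y.basicOpen a)
  let c : Y → Γ(Y, Y.basicOpen h) := fun _ => 1
  let E : Γ(Y, Y.basicOpen h) := ∑ s ∈ S, e s * c s
  let a' : Γ(Y, Y.basicOpen h) := a + (a * b - 1) * E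
  have hfa' : (f.app (Y.basicOpen h)).hom a' = (θ : Γ(X, f ⁻¹ᵁ Y.basicOpen h)) := by
    show (f.app (Y.basicOpen h)).hom (a + (a * b - 1) * E) = _
    rw [map_add, map_mul, map_sub, map_mul, map_one, ha, hb, Units.mul_inv, sub_self, zero_mul,
      add_zero]
  have hGa' : ∀ z ∈ G, z ∈ Y.basicOpen a' := by
    intro z hz
    have hzD := hGD z hz
    rw [← ev_ne_zero_iff z hzD]
    have hE := eval_sum_sep G e he S (Finset.filter_subset _ _) c z hz hzD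
    show (Y.evaluation (Y.basicOpen h) z hzD).hom (a + (a * b - 1) * E) ≠ 0
    by_cases hza : z ∈ Y.basicOpen a
    · have hzS : z ∉ S := fun hmem => (Finset.mem_filter.mp hmem).2 hza
      rw [if_neg hzS] at hE
      rw [map_add, map_mul, hE, mul_zero, add_zero]
      exact (ev_ne_zero_iff z hzD a).mpr hza
    · have hzS : z ∈ S := Finset.mem_filter.mpr ⟨hz, hza⟩
      rw [if_pos hzS] at hE
      have hc1 : (Y.evaluation (Y.basicOpen h) z hzD).hom (c z) = 1 := map_one _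
      rw [hc1, mul_one] at hE
      have ha0 := (ev_eq_zero_iff z hzD a).mpr hza
      have he0 := (ev_ne_zero_iff z hzD (e z)).mpr (he z hz).1
      rw [map_add, map_mul, map_sub, map_mul, map_one, ha0, hE, zero_mul, zero_sub, zero_add]
      exact mul_ne_zero (neg_ne_zero.mpr one_ne_zero) he0
  have hgen : ∀ z : Y, z ⤳ y → z ∈ U → z ∈ Y.basicOpen a' := fun z hz hzU =>
    hGa' z ((hG z).mpr ⟨hz, fun e' => hyU (e' ▸ hzU)⟩)
  obtain ⟨P', hyP', hP'P, hP'D⟩ := exists_nhd_inf_le U y hP hyP (Y.basicOpen a')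
    ((Y.basicOpen_le a').trans (Y.basicOpen_le h)) (hD.basicOpen a').isCompact hgen
  have hle : P' ⊓ U ≤ Y.basicOpen h := hP'D.trans (Y.basicOpen_le a')
  have hu : IsUnit (rres Y hle a') := isUnit_rres_of_le_basicOpen a' hle hP'D
  refine ⟨P', hle, hu.unit, hyP', hP'P, ?_⟩
  rw [IsUnit.unit_spec, app_rres, hfa']

/-- Finiteness and incomparability of proper generizations, from topological hypotheses. -/
theorem finite_generizations' [NoetherianSpace Y]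
    (hdim : ∀ y : Y, ringKrullDim (Y.presheaf.stalk y) ≤ 1) (y : Y) :
    {z : Y | z ⤳ y ∧ z ≠ y}.Finite ∧
      ∀ z z' : Y, z ⤳ y → z ≠ y → z' ⤳ y → z' ≠ y → z ⤳ z' → z = z' := by
  have key : ∀ w z : Y, w ⤳ z → z ⤳ y → z ≠ y → w = z := by
    intro w z hwz hzy hne
    by_contra hwne
    have hcl := AmpleCurve.isClosed_singleton_of_specializes hdim z w hwz hwne
    have h1 : y ∈ closure ({z} : Set Y) := specializes_iff_mem_closure.mp hzy
    rw [hcl.closure_eq] at h1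
    exact hne (Set.mem_singleton_iff.mp h1).symm
  refine ⟨?_, fun z z' _ _ hz' hne' hzz' => key z z' hzz' hz' hne'⟩
  have hcomp := NoetherianSpace.finite_irreducibleComponents (α := Y)
  haveI : Finite ↥(irreducibleComponents Y) := hcomp.to_subtype
  have hgenpt : ∀ Z : irreducibleComponents Y, ∃ η : Y, IsGenericPoint η (Z : Set Y) := fun Z =>
    QuasiSober.sober Z.2.1 (isClosed_of_mem_irreducibleComponents _ Z.2)
  choose gp hgp using hgenpt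
  refine (Set.finite_range gp).subset ?_
  rintro z ⟨hzy, hne⟩
  let Z : irreducibleComponents Y :=
    ⟨irreducibleComponent z, irreducibleComponent_mem_irreducibleComponents z⟩
  refine ⟨Z, ?_⟩
  apply key (gp Z) z _ hzy hne
  rw [specializes_iff_mem_closure, (hgp Z).def]
  exact mem_irreducibleComponent

/-- The chart at a point of the complement (only finiteness of generizations needed). -/
theorem exists_chart' (U : Y.Opens) [QuasiCompact U.ι]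
    (hdisc : DiscreteTopology ↥((U : Set Y)ᶜ)) (y : Y) (hyU : y ∉ U)
    (hycl : IsClosed ({y} : Set Y))
    (hfin : {z : Y | z ⤳ y ∧ z ≠ y}.Finite)
    (hinc : ∀ z z' : Y, z ⤳ y → z ≠ y → z' ⤳ y → z' ≠ y → z ⤳ z' → z = z') :
    ∃ (P : Y.Opens) (h : Γ(Y, P)), IsAffineOpen P ∧ y ∈ P ∧ Y.basicOpen h = P ⊓ U ∧
      ∀ z ∈ P, z ∉ U → z = y := by
  classical
  haveI := hdisc
  obtain ⟨W₀, hW₀, hW₀x⟩ : ∃ W₀ : Set Y, IsOpen W₀ ∧
      Subtype.val ⁻¹' W₀ = ({⟨y, hyU⟩} : Set ↥((U : Set Y)ᶜ)) :=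
    isOpen_induced_iff.mp (isOpen_discrete _)
  have hyW₀ : y ∈ W₀ := by
    have h0 : (⟨y, hyU⟩ : ↥((U : Set Y)ᶜ)) ∈ Subtype.val ⁻¹' W₀ := by
      rw [hW₀x]
      rfl
    exact h0
  have hiso : ∀ z ∈ W₀, z ∉ U → z = y := by
    intro z hz hzU
    have h0 : (⟨z, hzU⟩ : ↥((U : Set Y)ᶜ)) ∈ Subtype.val ⁻¹' W₀ := hz
    rw [hW₀x] at h0
    exact congrArg Subtype.val (Set.mem_singleton_iff.mp h0)
  obtain ⟨P₁, hP₁, hyP₁, hP₁W⟩ := exists_affine_le y ⟨W₀, hW₀⟩ hyW₀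
  let G : Finset Y := hfin.toFinset
  have hG : ∀ z, z ∈ G ↔ (z ⤳ y ∧ z ≠ y) := fun z => hfin.mem_toFinset
  have hGP : ∀ z ∈ G, z ∈ P₁ := fun z hz => ((hG z).mp hz).1.mem_open P₁.isOpen hyP₁
  have hincG : ∀ z ∈ G, ∀ z' ∈ G, z ⤳ z' → z = z' := fun z hz z' hz' hh =>
    hinc z z' ((hG z).mp hz).1 ((hG z).mp hz).2 ((hG z').mp hz').1 ((hG z').mp hz').2 hh
  obtain ⟨e, he⟩ := exists_sep hP₁ G hGP hincG
  have ht : ∀ z ∈ G, ∃ t : Γ(Y, P₁), z ∈ Y.basicOpen t ∧ y ∉ Y.basicOpen t := by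
    intro z hz
    have hne : z ≠ y := ((hG z).mp hz).2
    obtain ⟨t, htle, hzt⟩ := hP₁.exists_basicOpen_le
      (V := ⟨({y} : Set Y)ᶜ, hycl.isOpen_compl⟩) ⟨z, hne⟩ (hGP z hz)
    exact ⟨t, hzt, fun hy => htle hy rfl⟩
  choose! t ht1 ht2 using ht
  let h₁ : Γ(Y, P₁) := ∑ s ∈ G, e s * t s
  have hgenG : ∀ z ∈ G, z ∈ Y.basicOpen h₁ := by
    intro z hz
    rw [← ev_ne_zero_iff z (hGP z hz)]
    have h2 := eval_sum_sep G e he G (Finset.Subset.refl G) t z hz (hGP z hz)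
    rw [if_pos hz] at h2
    show (Y.evaluation P₁ z (hGP z hz)).hom (∑ s ∈ G, e s * t s) ≠ 0
    rw [h2]
    exact mul_ne_zero ((ev_ne_zero_iff z _ _).mpr (he z hz).1)
      ((ev_ne_zero_iff z _ _).mpr (ht1 z hz))
  have hy₁ : y ∉ Y.basicOpen h₁ := by
    rw [← ev_eq_zero_iff y hyP₁]
    show (Y.evaluation P₁ y hyP₁).hom (∑ s ∈ G, e s * t s) = 0
    rw [map_sum]
    apply Finset.sum_eq_zero
    intro s hs
    rw [map_mul, (ev_eq_zero_iff y hyP₁ (t s)).mpr (ht2 s hs), mul_zero]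
  have hgen : ∀ z : Y, z ⤳ y → z ∈ U → z ∈ Y.basicOpen h₁ := fun z hz hzU =>
    hgenG z ((hG z).mpr ⟨hz, fun e' => hyU (e' ▸ hzU)⟩)
  obtain ⟨P', hyP', hP'P₁, hP'D⟩ := exists_nhd_inf_le U y hP₁ hyP₁ (Y.basicOpen h₁)
    (Y.basicOpen_le h₁) (hP₁.basicOpen h₁).isCompact hgen
  obtain ⟨P, hP, hyP, hPP'⟩ := exists_affine_le y P' hyP'
  have hPP₁ : P ≤ P₁ := hPP'.trans hP'P₁
  have hPW : ∀ z ∈ P, z ∈ W₀ := fun z hz => hP₁W (hPP₁ hz)
  refine ⟨P, rres Y hPP₁ h₁, hP, hyP, ?_, fun z hzP hzU => hiso z (hPW z hzP) hzU⟩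
  have hb : Y.basicOpen (rres Y hPP₁ h₁) = P ⊓ Y.basicOpen h₁ :=
    Scheme.basicOpen_res Y h₁ (homOfLE hPP₁).op
  rw [hb]
  apply le_antisymm
  · rintro z ⟨hzP, hzD⟩
    refine ⟨hzP, ?_⟩
    by_contra hzU
    have hzx : z = y := hiso z (hPW z hzP) hzU
    exact hy₁ (hzx ▸ hzD)
  · rintro z ⟨hzP, hzU⟩
    exact ⟨hzP, hP'D ⟨hPP' hzP, hzU⟩⟩

/-- The complement of an open containing a generization of every point is discrete, with closed
points. -/
theorem discrete_compl [NoetherianSpace Y]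
    (hdim : ∀ y : Y, ringKrullDim (Y.presheaf.stalk y) ≤ 1)
    (U : Y.Opens) (hU : ∀ z : Y, ∃ η ∈ U, η ⤳ z) :
    DiscreteTopology ↥((U : Set Y)ᶜ) ∧ ∀ z, z ∉ U → IsClosed ({z} : Set Y) := by
  have hclosed : ∀ z, z ∉ U → IsClosed ({z} : Set Y) := by
    intro z hz
    obtain ⟨η, hηU, hηz⟩ := hU z
    exact AmpleCurve.isClosed_singleton_of_specializes hdim z η hηz (fun e => hz (e ▸ hηU))
  refine ⟨?_, hclosed⟩
  have hZcl : IsClosed ((U : Set Y)ᶜ) := U.isOpen.isClosed_compl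
  haveI : QuasiSober ↥((U : Set Y)ᶜ) := hZcl.isClosedEmbedding_subtypeVal.quasiSober
  have hpts : ∀ t : ↥((U : Set Y)ᶜ), IsClosed ({t} : Set ↥((U : Set Y)ᶜ)) := by
    intro t
    have h1 : IsClosed ((Subtype.val : ↥((U : Set Y)ᶜ) → Y) ⁻¹' {t.1}) :=
      (hclosed t.1 t.2).preimage continuous_subtype_val
    convert h1 using 1
    ext w
    simp [Subtype.ext_iff]
  haveI : Finite ↥((U : Set Y)ᶜ) := AmpleCurve.finite_of_isClosed_singleton hpts
  haveI : T1Space ↥((U : Set Y)ᶜ) := ⟨hpts⟩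
  infer_instance

theorem sec_eq_of_eq_bot (L : X.Modules) {P : X.Opens} (hP : P = ⊥) (a b : Γ(L, P)) : a = b := by
  subst hP
  haveI : Subsingleton Γ(L, (⊥ : X.Opens)) := Module.subsingleton Γ(X, (⊥ : X.Opens)) _
  exact Subsingleton.elim a b

/-- A dense open of the base, inside `V`, over whose preimage `L` is trivial. -/
theorem exists_dense_trivial (f : X ⟶ Y) [NoetherianSpace Y] (hf : IsClosedMap f.base)
    (V : Y.Opens) (hV : Dense (V : Set Y))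
    (hinj : ∀ x x' : X, f.base x ∈ V → f.base x = f.base x' → x = x')
    {L : X.Modules} (hL : PicF.IsInvertible L) :
    ∃ (U : Y.Opens) (γ₀ : Γ(L, f ⁻¹ᵁ U)), U ≤ V ∧ IsGen L (f ⁻¹ᵁ U) γ₀ ∧
      ∀ z : Y, ∃ η ∈ U, η ⤳ z := by
  classical
  have hcomp := NoetherianSpace.finite_irreducibleComponents (α := Y)
  have hgenpt : ∀ Z : irreducibleComponents Y, ∃ η : Y, IsGenericPoint η (Z : Set Y) := fun Z =>
    QuasiSober.sober Z.2.1 (isClosed_of_mem_irreducibleComponents _ Z.2)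
  choose gp hgp using hgenpt
  have hFcl : ∀ Z : irreducibleComponents Y,
      IsClosed (⋃₀ (irreducibleComponents Y \ {Z.1})) := by
    intro Z
    rw [Set.sUnion_eq_biUnion]
    exact hcomp.sdiff.isClosed_biUnion fun W hW => isClosed_of_mem_irreducibleComponents W hW.1
  let O : irreducibleComponents Y → Y.Opens := fun Z =>
    ⟨(⋃₀ (irreducibleComponents Y \ {Z.1}))ᶜ, (hFcl Z).isOpen_compl⟩
  have hOcl : ∀ Z, closure ((O Z : Y.Opens) : Set Y) = Z.1 := fun Z =>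
    closure_sUnion_irreducibleComponents_sdiff_singleton hcomp Z.1 Z.2
  have hOZ : ∀ Z, ((O Z : Y.Opens) : Set Y) ⊆ Z.1 := fun Z =>
    subset_closure.trans (hOcl Z).le
  have hOne : ∀ Z, ((O Z : Y.Opens) : Set Y).Nonempty := by
    intro Z
    by_contra hne
    rw [Set.not_nonempty_iff_eq_empty] at hne
    have h2 := hOcl Z
    rw [hne, closure_empty] at h2
    exact Z.2.1.nonempty.ne_empty h2.symm
  have hcompOf : ∀ (Z : irreducibleComponents Y) (z : Y), z ∈ O Z → irreducibleComponent z = Z.1 := by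
    intro Z z hz
    by_contra hcon
    exact hz (Set.mem_sUnion.mpr ⟨irreducibleComponent z,
      ⟨irreducibleComponent_mem_irreducibleComponents z, hcon⟩, mem_irreducibleComponent⟩)
  have hdisj : ∀ Z Z' : irreducibleComponents Y, Z ≠ Z' → ∀ z, z ∈ O Z → z ∉ O Z' := by
    intro Z Z' hne z hz hz'
    exact hne (Subtype.ext ((hcompOf Z z hz).symm.trans (hcompOf Z' z hz')))
  have hgpO : ∀ Z, gp Z ∈ O Z := by
    intro Z
    obtain ⟨v, hv⟩ := hOne Z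
    have hvZ : v ∈ closure ({gp Z} : Set Y) := by
      rw [(hgp Z).def]
      exact hOZ Z hv
    exact (specializes_iff_mem_closure.mpr hvZ).mem_open (O Z).isOpen hv
  have hgpV : ∀ Z, gp Z ∈ V := by
    intro Z
    obtain ⟨v, hvO, hvV⟩ := hV.inter_open_nonempty _ (O Z).isOpen (hOne Z)
    have hvZ : v ∈ closure ({gp Z} : Set Y) := by
      rw [(hgp Z).def]
      exact hOZ Z hvO
    exact (specializes_iff_mem_closure.mpr hvZ).mem_open V.isOpen hvV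
  have hch : ∀ Z, ∃ (P : Y.Opens) (e : Γ(L, f ⁻¹ᵁ P)), gp Z ∈ P ∧ IsGen L (f ⁻¹ᵁ P) e := fun Z =>
    exists_nhd_isGen_of_subsingleton f hf hL (gp Z) (fun x x' hx hx' =>
      hinj x x' (by rw [hx]; exact hgpV Z) (hx.trans hx'.symm))
  choose P e hgpP he using hch
  let Q : irreducibleComponents Y → Y.Opens := fun Z => P Z ⊓ V ⊓ O Z
  have hgpQ : ∀ Z, gp Z ∈ Q Z := fun Z => ⟨⟨hgpP Z, hgpV Z⟩, hgpO Z⟩
  let U : Y.Opens := ⨆ Z, Q Z
  have hUV : U ≤ V := iSup_le fun Z => inf_le_left.trans inf_le_right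
  let W : irreducibleComponents Y → X.Opens := fun Z => f ⁻¹ᵁ Q Z
  have hWle : ∀ Z, W Z ≤ f ⁻¹ᵁ U := fun Z => f.preimage_mono (le_iSup Q Z)
  have hWP : ∀ Z, W Z ≤ f ⁻¹ᵁ P Z := fun Z => f.preimage_mono (inf_le_left.trans inf_le_left)
  have hcov : f ⁻¹ᵁ U ≤ ⨆ Z, W Z := by
    intro x hx
    obtain ⟨Z, hZ⟩ := Opens.mem_iSup.mp (show f.base x ∈ U from hx)
    exact Opens.mem_iSup.mpr ⟨Z, hZ⟩
  have hWdisj : ∀ Z Z', Z ≠ Z' → W Z ⊓ W Z' = ⊥ := by
    intro Z Z' hne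
    rw [eq_bot_iff]
    rintro x ⟨hx, hx'⟩
    exact (hdisj Z Z' hne (f.base x) hx.2 hx'.2).elim
  obtain ⟨γ₀, hγ₀⟩ := sec_glue L W (f ⁻¹ᵁ U) hWle hcov (fun Z => res L (hWP Z) (e Z)) (by
    intro Z Z'
    by_cases hZZ : Z = Z'
    · subst hZZ
      rfl
    · exact sec_eq_of_eq_bot L (hWdisj Z Z' hZZ) _ _)
  refine ⟨U, γ₀, hUV, ?_, ?_⟩
  · apply isGen_of_local
    intro x hx
    obtain ⟨Z, hZ⟩ := Opens.mem_iSup.mp (hcov hx)
    refine ⟨W Z, hWle Z, hZ, ?_⟩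
    rw [hγ₀ Z]
    exact (he Z).mono (hWP Z)
  · intro z
    let Z : irreducibleComponents Y :=
      ⟨irreducibleComponent z, irreducibleComponent_mem_irreducibleComponents z⟩
    refine ⟨gp Z, Opens.mem_iSup.mpr ⟨Z, hgpQ Z⟩, ?_⟩
    rw [specializes_iff_mem_closure, (hgp Z).def]
    exact mem_irreducibleComponent

/-- All the data at a bad point. -/
theorem exists_chart_data (f : X ⟶ Y) (U : Y.Opens) [QuasiCompact U.ι]
    (hdisc : DiscreteTopology ↥((U : Set Y)ᶜ)) (y : Y) (hyU : y ∉ U)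
    (hycl : IsClosed ({y} : Set Y))
    (hfin : {z : Y | z ⤳ y ∧ z ≠ y}.Finite)
    (hinc : ∀ z z' : Y, z ⤳ y → z ≠ y → z' ⤳ y → z' ≠ y → z ⤳ z' → z = z')
    (hsurj : ∀ W : Y.Opens, W ≤ U → IsAffineOpen W → Function.Surjective (f.app W).hom)
    {L : X.Modules} (γ₀ : Γ(L, f ⁻¹ᵁ U)) (hγ₀ : IsGen L (f ⁻¹ᵁ U) γ₀)
    (htriv : ∃ (P : Y.Opens) (γ : Γ(L, f ⁻¹ᵁ P)), y ∈ P ∧ IsGen L (f ⁻¹ᵁ P) γ) :
    ∃ (P' : Y.Opens) (γ : Γ(L, f ⁻¹ᵁ P')) (H : (Γ(Y, P' ⊓ U))ˣ),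
      y ∈ P' ∧ (∀ z ∈ P', z ∉ U → z = y) ∧ IsGen L (f ⁻¹ᵁ P') γ ∧
      (f.app (P' ⊓ U)).hom (H : Γ(Y, P' ⊓ U)) •
          res L (f.preimage_mono inf_le_left : f ⁻¹ᵁ (P' ⊓ U) ≤ f ⁻¹ᵁ P') γ =
        res L (f.preimage_mono inf_le_right : f ⁻¹ᵁ (P' ⊓ U) ≤ f ⁻¹ᵁ U) γ₀ := by
  obtain ⟨P₂, γ₂, hyP₂, hγ₂⟩ := htriv
  obtain ⟨P, h, hP, hyP, hPh, hiso⟩ := exists_chart' U hdisc y hyU hycl hfin hinc
  obtain ⟨g, hgle, hyg⟩ := hP.exists_basicOpen_le (V := P ⊓ P₂) ⟨y, ⟨hyP, hyP₂⟩⟩ hyP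
  have hP₃ : IsAffineOpen (Y.basicOpen g) := hP.basicOpen g
  have hP₃P : Y.basicOpen g ≤ P := Y.basicOpen_le g
  have hP₃P₂ : Y.basicOpen g ≤ P₂ := hgle.trans inf_le_right
  have hP₃h : Y.basicOpen (rres Y hP₃P h) = Y.basicOpen g ⊓ U := by
    have hb : Y.basicOpen (rres Y hP₃P h) = Y.basicOpen g ⊓ Y.basicOpen h :=
      Scheme.basicOpen_res Y h (homOfLE hP₃P).op
    rw [hb, hPh, ← inf_assoc, inf_eq_left.mpr hP₃P]
  have hiso₃ : ∀ z ∈ Y.basicOpen g, z ∉ U → z = y := fun z hz => hiso z (hP₃P hz)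
  have hγ₃ : IsGen L (f ⁻¹ᵁ Y.basicOpen g) (res L (f.preimage_mono hP₃P₂) γ₂) :=
    hγ₂.mono (f.preimage_mono hP₃P₂)
  have hDU : Y.basicOpen (rres Y hP₃P h) ≤ U := by
    rw [hP₃h]
    exact inf_le_right
  have hDP : Y.basicOpen (rres Y hP₃P h) ≤ Y.basicOpen g := Y.basicOpen_le _
  obtain ⟨θ, hθu, hθ⟩ := (hγ₃ _ (f.preimage_mono hDP)).exists_unit (hγ₀ _ (f.preimage_mono hDU))
  obtain ⟨P', hle, H, hyP', hP'P₃, hH⟩ := exists_unit_lift f U y hyU hP₃ hyg (rres Y hP₃P h)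
    hP₃h hiso₃ hfin hinc (hsurj _ hDU (hP₃.basicOpen _)) hθu.unit
  refine ⟨P', res L (f.preimage_mono hP'P₃) (res L (f.preimage_mono hP₃P₂) γ₂), H, hyP',
    fun z hz => hiso₃ z (hP'P₃ hz), hγ₃.mono (f.preimage_mono hP'P₃), ?_⟩
  rw [hH, IsUnit.unit_spec]
  have e1 := congrArg (res L (f.preimage_mono hle)) hθ
  rw [res_smul, res_res, res_res] at e1
  rw [res_res]
  exact e1.symm

/-- **Main descent theorem.** -/
theorem main_descent (f : X ⟶ Y) [NoetherianSpace Y]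
    (hdim : ∀ y : Y, ringKrullDim (Y.presheaf.stalk y) ≤ 1)
    (hf : IsClosedMap f.base)
    (V : Y.Opens) (hV : Dense (V : Set Y))
    (hinj : ∀ x x' : X, f.base x ∈ V → f.base x = f.base x' → x = x')
    (hsurj : ∀ W : Y.Opens, W ≤ V → IsAffineOpen W → Function.Surjective (f.app W).hom)
    {L : X.Modules} (hL : PicF.IsInvertible L)
    (htriv : ∀ y : Y, IsClosed ({y} : Set Y) →
      ∃ (P : Y.Opens) (γ : Γ(L, f ⁻¹ᵁ P)), y ∈ P ∧ IsGen L (f ⁻¹ᵁ P) γ) :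
    ∃ M : Y.Modules, PicF.IsInvertible M ∧
      Nonempty ((Scheme.Modules.pullback f).obj M ≅ L) := by
  classical
  obtain ⟨U, γ₀, hUV, hγ₀, hgen⟩ := exists_dense_trivial f hf V hV hinj hL
  obtain ⟨hdisc, hclosed⟩ := discrete_compl hdim U hgen
  haveI : NoetherianSpace ↥(U : Scheme.{u}) := U.ι.isOpenEmbedding.isInducing.noetherianSpace
  have hchart : ∀ c : ↥((U : Set Y)ᶜ), ∃ (P' : Y.Opens) (γ : Γ(L, f ⁻¹ᵁ P'))
      (H : (Γ(Y, P' ⊓ U))ˣ),
      c.1 ∈ P' ∧ (∀ z ∈ P', z ∉ U → z = c.1) ∧ IsGen L (f ⁻¹ᵁ P') γ ∧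
      (f.app (P' ⊓ U)).hom (H : Γ(Y, P' ⊓ U)) •
          res L (f.preimage_mono inf_le_left : f ⁻¹ᵁ (P' ⊓ U) ≤ f ⁻¹ᵁ P') γ =
        res L (f.preimage_mono inf_le_right : f ⁻¹ᵁ (P' ⊓ U) ≤ f ⁻¹ᵁ U) γ₀ := by
    intro c
    exact exists_chart_data f U hdisc c.1 c.2 (hclosed c.1 c.2)
      (finite_generizations' hdim c.1).1 (finite_generizations' hdim c.1).2
      (fun W hW hWa => hsurj W (hW.trans hUV) hWa) γ₀ hγ₀ (htriv c.1 (hclosed c.1 c.2))
  choose P γ H hcP hiso hγ hH using hchart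
  exact exists_descent_of_ref f L U γ₀ hγ₀ P γ hγ
    (fun y => by
      by_cases hy : y ∈ U
      · exact Or.inl hy
      · exact Or.inr ⟨⟨y, hy⟩, hcP ⟨y, hy⟩⟩)
    (fun c c' hne z hz => by
      by_contra hzU
      exact hne (Subtype.ext ((hiso c z hz.1 hzU).symm.trans (hiso c' z hz.2 hzU))))
    H hH

/-- Points over a closed point of a finite morphism are closed. -/
theorem isClosed_singleton_of_fibre (f : X ⟶ Y) [IsFinite f] (y : Y)
    (hy : IsClosed ({y} : Set Y)) (x : X) (hx : f.base x = y) : IsClosed ({x} : Set X) := by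
  rw [← closure_subset_iff_isClosed]
  intro x' hx'
  have hsp : x ⤳ x' := specializes_iff_mem_closure.mpr hx'
  have hsp' : f.base x ⤳ f.base x' := hsp.map f.continuous
  have hfx' : f.base x' = y := by
    have h1 : f.base x' ∈ closure ({f.base x} : Set Y) := specializes_iff_mem_closure.mp hsp'
    rw [hx, hy.closure_eq] at h1
    exact h1
  have h2 := (f.isDiscrete_preimage_singleton y).eq_of_specializes hsp hx hfx'
  exact h2.symm ▸ rfl

/-- An invertible module is trivial on the preimage of a neighbourhood of a closed point, for a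
finite morphism. -/
theorem exists_nhd_isGen_of_finite (f : X ⟶ Y) [IsFinite f] {L : X.Modules}
    (hL : PicF.IsInvertible L) (y : Y) (hy : IsClosed ({y} : Set Y)) :
    ∃ (P : Y.Opens) (γ : Γ(L, f ⁻¹ᵁ P)), y ∈ P ∧ IsGen L (f ⁻¹ᵁ P) γ := by
  classical
  obtain ⟨W, hW, hyW, -⟩ := exists_affine_le y ⊤ trivial
  have hfin : (f.base ⁻¹' {y}).Finite := f.finite_preimage_singleton y
  haveI : Fintype ↥(f.base ⁻¹' {y}) := hfin.fintype
  obtain ⟨O, e, -, hptO, hg⟩ := TrivFin.exists_affine_isGen_fintype hL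
    (ι := ↥(f.base ⁻¹' {y})) (fun x => x.1) Subtype.val_injective
    (fun x => isClosed_singleton_of_fibre f y hy x.1 x.2) (hW.preimage f)
    (fun x => by
      show f.base x.1 ∈ W
      rw [show f.base x.1 = y from x.2]
      exact hyW)
  obtain ⟨P, hyP, hPO⟩ := exists_nhd_preimage_le f f.isClosedMap y O (fun x hx => hptO ⟨x, hx⟩)
  exact ⟨P, res L hPO e, hyP, hg.mono hPO⟩

/-- S1552: finite, iso over `V`, discrete complement. -/
theorem main_iso (f : X ⟶ Y) [IsFinite f] (V : Y.Opens) [IsIso (f ∣_ V)]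
    (hdisc : DiscreteTopology ↥((V : Set Y)ᶜ)) {L : X.Modules} (hL : PicF.IsInvertible L) :
    ∃ M : Y.Modules, PicF.IsInvertible M ∧
      Nonempty ((Scheme.Modules.pullback f).obj M ≅ L) := by
  classical
  haveI := hdisc
  have hclosed : ∀ y : Y, y ∉ V → IsClosed ({y} : Set Y) := by
    intro y hy
    have hZcl : IsClosed ((V : Set Y)ᶜ) := V.isOpen.isClosed_compl
    have h1 : IsClosed ({⟨y, hy⟩} : Set ↥((V : Set Y)ᶜ)) := isClosed_discrete _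
    have h2 := hZcl.isClosedEmbedding_subtypeVal.isClosedMap _ h1
    rwa [Set.image_singleton] at h2
  have hchart : ∀ y : Y, ∃ (P : Y.Opens) (γ : Γ(L, f ⁻¹ᵁ P)), y ∈ P ∧ IsGen L (f ⁻¹ᵁ P) γ ∧
      (y ∈ V → P ≤ V) ∧ (y ∉ V → ∀ z ∈ P, z ∉ V → z = y) := by
    intro y
    by_cases hy : y ∈ V
    · obtain ⟨P, γ, hyP, hg⟩ := exists_nhd_isGen_of_subsingleton f f.isClosedMap hL y
        (fun x x' hx hx' => injOn_of_isClosedImmersion f V x x' (by rw [hx]; exact hy)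
          (hx.trans hx'.symm))
      exact ⟨P ⊓ V, res L (f.preimage_mono inf_le_left) γ, ⟨hyP, hy⟩,
        hg.mono (f.preimage_mono inf_le_left), fun _ => inf_le_right, fun h => (h hy).elim⟩
    · obtain ⟨P, γ, hyP, hg⟩ := exists_nhd_isGen_of_finite f hL y (hclosed y hy)
      obtain ⟨W₀, hW₀, hW₀x⟩ : ∃ W₀ : Set Y, IsOpen W₀ ∧
          Subtype.val ⁻¹' W₀ = ({⟨y, hy⟩} : Set ↥((V : Set Y)ᶜ)) :=
        isOpen_induced_iff.mp (isOpen_discrete _)
      have hyW₀ : y ∈ W₀ := by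
        have h0 : (⟨y, hy⟩ : ↥((V : Set Y)ᶜ)) ∈ Subtype.val ⁻¹' W₀ := by
          rw [hW₀x]
          rfl
        exact h0
      have hiso : ∀ z ∈ W₀, z ∉ V → z = y := by
        intro z hz hzU
        have h0 : (⟨z, hzU⟩ : ↥((V : Set Y)ᶜ)) ∈ Subtype.val ⁻¹' W₀ := hz
        rw [hW₀x] at h0
        exact congrArg Subtype.val (Set.mem_singleton_iff.mp h0)
      exact ⟨P ⊓ ⟨W₀, hW₀⟩, res L (f.preimage_mono inf_le_left) γ, ⟨hyP, hyW₀⟩,
        hg.mono (f.preimage_mono inf_le_left), fun h => (hy h).elim,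
        fun _ z hz hzV => hiso z hz.2 hzV⟩
  choose P γ hyP hg hPV hPiso using hchart
  have hpairV : ∀ y y', y ≠ y' → P y ⊓ P y' ≤ V := by
    intro y y' hne z hz
    by_contra hzV
    by_cases hy : y ∈ V
    · exact hzV (hPV y hy hz.1)
    · by_cases hy' : y' ∈ V
      · exact hzV (hPV y' hy' hz.2)
      · exact hne ((hPiso y hy z hz.1 hzV).symm.trans (hPiso y' hy' z hz.2 hzV))
  have hcov : iSup P = ⊤ := by
    rw [eq_top_iff]
    intro y _
    exact Opens.mem_iSup.mpr ⟨y, hyP y⟩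
  apply exists_descent_of_charts f L P hcov γ hg
  · intro a b
    by_cases hab : a = b
    · exact Or.inl hab
    · exact Or.inr (app_bijective_of_isIso f V _ (hpairV a b hab))
  · intro a b c
    by_cases hall : a = b ∧ b = c
    · exact Or.inl hall
    · right
      have h1 : P a ⊓ P b ⊓ P c ≤ V := by
        by_cases hab : a = b
        · have hbc : b ≠ c := fun e => hall ⟨hab, e⟩
          exact (inf_le_inf_right (P c) inf_le_right).trans (hpairV b c hbc)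
        · exact inf_le_left.trans (hpairV a b hab)
      exact (app_bijective_of_isIso f V _ h1).1

end H16PicDesc
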