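import Mathlib
import Groth.Agent.Lib.Helper16.PicDesc.Descent
import Groth.Agent.Lib.Helper26.DiscExt

/-!
# Descent of invertible modules along a jointly bijective family of morphisms (helper16)
-/

set_option autoImplicit false
universe u
open CategoryTheory CategoryTheory.Limits AlgebraicGeometry TopologicalSpace Opposite
open Scheme.Modules

namespace H16PicDesc

open Groth.Agent.Lib.Helper3 Groth.Agent.Lib.Helper3.QCSec Groth.Agent.Lib.Helper3.InvGen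
  Groth.Agent.Lib.Helper3.PbBasic
open Groth.Agent.Lib.Helper26 Groth.Agent.Lib.Helper26.DiscExt

variable {Y : Scheme.{u}}

theorem pullback_iso_of_gens {X : Scheme.{u}} (f : X ⟶ Y) (L : X.Modules) {ι : Type u}
    (N : ι → Y.Opens) (hN : iSup N = ⊤)
    (M : Y.Modules) (s : ∀ a, Γ(M, N a)) (hs : ∀ a, IsGen M (N a) (s a))
    (η : ∀ a b, (Γ(Y, N a ⊓ N b))ˣ)
    (hrel : ∀ a b, res M (inf_le_left : N a ⊓ N b ≤ N a) (s a) =
      (η a b : Γ(Y, N a ⊓ N b)) • res M (inf_le_right : N a ⊓ N b ≤ N b) (s b))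
    (g : ∀ a, Γ(L, f ⁻¹ᵁ N a)) (hg : ∀ a, IsGen L (f ⁻¹ᵁ N a) (g a))
    (hcompat : ∀ a b,
      res L (f.preimage_mono inf_le_left : f ⁻¹ᵁ (N a ⊓ N b) ≤ f ⁻¹ᵁ N a) (g a) =
        ((f.app (N a ⊓ N b)).hom (η a b : Γ(Y, N a ⊓ N b))) •
          res L (f.preimage_mono inf_le_right : f ⁻¹ᵁ (N a ⊓ N b) ≤ f ⁻¹ᵁ N b) (g b)) :
    Nonempty ((Scheme.Modules.pullback f).obj M ≅ L) := by
  let V : ι → X.Opens := fun a => f ⁻¹ᵁ N a
  have hV : iSup V = ⊤ := by
    rw [eq_top_iff]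
    intro x _
    have hy : f x ∈ (iSup N : Y.Opens) := by rw [hN]; trivial
    obtain ⟨a, ha⟩ := Opens.mem_iSup.mp hy
    exact Opens.mem_iSup.mpr ⟨a, ha⟩
  let s' : ∀ a, Γ((Scheme.Modules.pullback f).obj M, V a) := fun a => pull f M (N a) (s a)
  have hs' : ∀ a, IsGen ((Scheme.Modules.pullback f).obj M) (V a) (s' a) :=
    fun a => isGen_pull f (hs a)
  let θ : ∀ a b, Γ(X, V a ⊓ V b) := fun a b =>
    (f.app (N a ⊓ N b)).hom (η a b : Γ(Y, N a ⊓ N b))
  have hθ' : ∀ a b,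
      res ((Scheme.Modules.pullback f).obj M) (inf_le_left : V a ⊓ V b ≤ V a) (s' a) =
        θ a b • res ((Scheme.Modules.pullback f).obj M) (inf_le_right : V a ⊓ V b ≤ V b) (s' b) := by
    intro a b
    have h1 := congrArg (pull f M (N a ⊓ N b)) (hrel a b)
    rw [pull_smul, ← res_pull, ← res_pull] at h1
    exact h1
  have hcompat' : ∀ a b, res L (inf_le_left : V a ⊓ V b ≤ V a) (g a) =
      θ a b • res L (inf_le_right : V a ⊓ V b ≤ V b) (g b) := fun a b => hcompat a b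
  exact Cocycle.nonempty_iso_of_units V hV s' g hs' hg θ θ hθ' hcompat' (fun _ => 1) (by
    intro a b
    simp only [Units.val_one]
    rw [rres_one, rres_one, mul_one, one_mul])

theorem exists_descent_family {I : Type*} {X : I → Scheme.{u}} (f : ∀ i, X i ⟶ Y)
    (L : ∀ i, (X i).Modules) {ι : Type u} (N : ι → Y.Opens) (hN : iSup N = ⊤)
    (g : ∀ i a, Γ(L i, f i ⁻¹ᵁ N a)) (hg : ∀ i a, IsGen (L i) (f i ⁻¹ᵁ N a) (g i a))
    (η : ∀ a b, (Γ(Y, N a ⊓ N b))ˣ)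
    (hη : ∀ a b c,
      rres Y (inf_le_inf_right (N c) inf_le_left : N a ⊓ N b ⊓ N c ≤ N a ⊓ N c)
          (η a c : Γ(Y, N a ⊓ N c)) =
        rres Y (inf_le_left : N a ⊓ N b ⊓ N c ≤ N a ⊓ N b) (η a b : Γ(Y, N a ⊓ N b)) *
          rres Y (inf_le_inf_right (N c) inf_le_right : N a ⊓ N b ⊓ N c ≤ N b ⊓ N c)
            (η b c : Γ(Y, N b ⊓ N c)))
    (hcompat : ∀ i a b,
      res (L i) ((f i).preimage_mono inf_le_left : f i ⁻¹ᵁ (N a ⊓ N b) ≤ f i ⁻¹ᵁ N a) (g i a) =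
        (((f i).app (N a ⊓ N b)).hom (η a b : Γ(Y, N a ⊓ N b))) •
          res (L i) ((f i).preimage_mono inf_le_right : f i ⁻¹ᵁ (N a ⊓ N b) ≤ f i ⁻¹ᵁ N b)
            (g i b)) :
    ∃ M : Y.Modules, PicF.IsInvertible M ∧
      ∀ i, Nonempty ((Scheme.Modules.pullback (f i)).obj M ≅ L i) := by
  obtain ⟨M, s, hM, hs, hrel⟩ := CocycleGlue.main N η hη hN
  exact ⟨M, hM, fun i => pullback_iso_of_gens (f i) (L i) N hN M s hs η hrel (g i) (hg i)
    (hcompat i)⟩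

theorem exists_descent_of_charts_family {I : Type*} {X : I → Scheme.{u}} (f : ∀ i, X i ⟶ Y)
    (L : ∀ i, (X i).Modules) {C : Type u} (N : C → Y.Opens) (hN : iSup N = ⊤)
    (G : ∀ i c, Γ(L i, f i ⁻¹ᵁ N c)) (hGgen : ∀ i c, IsGen (L i) (f i ⁻¹ᵁ N c) (G i c))
    (hinj : ∀ (W : Y.Opens) (y y' : Γ(Y, W)),
      (∀ i, ((f i).app W).hom y = ((f i).app W).hom y') → y = y')
    (key2 : ∀ a b, a = b ∨ ∀ r : ∀ i, Γ(X i, f i ⁻¹ᵁ (N a ⊓ N b)),
      ∃ y : Γ(Y, N a ⊓ N b), ∀ i, ((f i).app (N a ⊓ N b)).hom y = r i) :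
    ∃ M : Y.Modules, PicF.IsInvertible M ∧
      ∀ i, Nonempty ((Scheme.Modules.pullback (f i)).obj M ≅ L i) := by
  classical
  have hl : ∀ i a b, f i ⁻¹ᵁ (N a ⊓ N b) ≤ f i ⁻¹ᵁ N a :=
    fun i a b => (f i).preimage_mono inf_le_left
  have hr' : ∀ i a b, f i ⁻¹ᵁ (N a ⊓ N b) ≤ f i ⁻¹ᵁ N b :=
    fun i a b => (f i).preimage_mono inf_le_right
  have hrat : ∀ i a b, ∃ r : Γ(X i, f i ⁻¹ᵁ (N a ⊓ N b)), IsUnit r ∧
      res (L i) (hl i a b) (G i a) = r • res (L i) (hr' i a b) (G i b) :=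
    fun i a b => (hGgen i b _ (hr' i a b)).exists_unit (hGgen i a _ (hl i a b))
  choose r hr_unit hr_eq using hrat
  have hr_self : ∀ i a, r i a a = 1 := by
    intro i a
    apply (hGgen i a _ (hr' i a a)).smul_inj
    rw [one_smul]
    exact (hr_eq i a a).symm
  have hr_coc : ∀ i a b c,
      rres (X i) ((f i).preimage_mono (inf_le_inf_right (N c) inf_le_left) :
          f i ⁻¹ᵁ (N a ⊓ N b ⊓ N c) ≤ f i ⁻¹ᵁ (N a ⊓ N c)) (r i a c) =
        rres (X i) ((f i).preimage_mono inf_le_left :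
            f i ⁻¹ᵁ (N a ⊓ N b ⊓ N c) ≤ f i ⁻¹ᵁ (N a ⊓ N b)) (r i a b) *
          rres (X i) ((f i).preimage_mono (inf_le_inf_right (N c) inf_le_right) :
            f i ⁻¹ᵁ (N a ⊓ N b ⊓ N c) ≤ f i ⁻¹ᵁ (N b ⊓ N c)) (r i b c) := by
    intro i a b c
    have t1 : f i ⁻¹ᵁ (N a ⊓ N b ⊓ N c) ≤ f i ⁻¹ᵁ (N a ⊓ N c) :=
      (f i).preimage_mono (inf_le_inf_right (N c) inf_le_left)
    have t2 : f i ⁻¹ᵁ (N a ⊓ N b ⊓ N c) ≤ f i ⁻¹ᵁ (N a ⊓ N b) :=
      (f i).preimage_mono inf_le_left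
    have t3 : f i ⁻¹ᵁ (N a ⊓ N b ⊓ N c) ≤ f i ⁻¹ᵁ (N b ⊓ N c) :=
      (f i).preimage_mono (inf_le_inf_right (N c) inf_le_right)
    have e1 := congrArg (res (L i) t1) (hr_eq i a c)
    have e2 := congrArg (res (L i) t2) (hr_eq i a b)
    have e3 := congrArg (res (L i) t3) (hr_eq i b c)
    rw [res_smul, res_res, res_res] at e1 e2 e3
    have hgenT := hGgen i c (f i ⁻¹ᵁ (N a ⊓ N b ⊓ N c)) (t1.trans (hr' i a c))
    apply hgenT.smul_inj
    rw [mul_smul]
    exact e1.symm.trans (e2.trans (congrArg _ e3))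
  have hη_ex : ∀ a b, ∃ η : (Γ(Y, N a ⊓ N b))ˣ,
      (∀ i, ((f i).app (N a ⊓ N b)).hom (η : Γ(Y, N a ⊓ N b)) = r i a b) ∧ (a = b → η = 1) := by
    intro a b
    rcases key2 a b with h | h
    · subst h
      exact ⟨1, fun i => by rw [Units.val_one, map_one, hr_self], fun _ => rfl⟩
    · obtain ⟨x, hx0⟩ := h (fun i => r i a b)
      have hx : ∀ i, ((f i).app (N a ⊓ N b)).hom x = r i a b := hx0
      obtain ⟨y, hy0⟩ := h (fun i => (((hr_unit i a b).unit⁻¹ :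
        (Γ(X i, f i ⁻¹ᵁ (N a ⊓ N b)))ˣ) : Γ(X i, f i ⁻¹ᵁ (N a ⊓ N b))))
      have hy : ∀ i, ((f i).app (N a ⊓ N b)).hom y = (((hr_unit i a b).unit⁻¹ :
        (Γ(X i, f i ⁻¹ᵁ (N a ⊓ N b)))ˣ) : Γ(X i, f i ⁻¹ᵁ (N a ⊓ N b))) := hy0
      have hxy : x * y = 1 := hinj _ _ _ (fun i => by
        rw [map_mul, hx, hy, map_one]; exact IsUnit.mul_val_inv _)
      refine ⟨⟨x, y, hxy, by rw [mul_comm]; exact hxy⟩, hx, ?_⟩
      intro hab
      subst hab
      apply Units.ext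
      apply hinj
      intro i
      show ((f i).app (N a ⊓ N a)).hom x =
        ((f i).app (N a ⊓ N a)).hom ((1 : (Γ(Y, N a ⊓ N a))ˣ) : _)
      rw [hx, hr_self, Units.val_one, map_one]
  choose η hη_eq hη_one using hη_ex
  have hη_coc : ∀ a b c,
      rres Y (inf_le_inf_right (N c) inf_le_left : N a ⊓ N b ⊓ N c ≤ N a ⊓ N c)
          (η a c : Γ(Y, N a ⊓ N c)) =
        rres Y (inf_le_left : N a ⊓ N b ⊓ N c ≤ N a ⊓ N b) (η a b : Γ(Y, N a ⊓ N b)) *
          rres Y (inf_le_inf_right (N c) inf_le_right : N a ⊓ N b ⊓ N c ≤ N b ⊓ N c)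
            (η b c : Γ(Y, N b ⊓ N c)) := by
    intro a b c
    apply hinj
    intro i
    rw [map_mul, app_rres, app_rres, app_rres, hη_eq, hη_eq, hη_eq]
    exact hr_coc i a b c
  have hcompat : ∀ i a b, res (L i) (hl i a b) (G i a) =
      (((f i).app (N a ⊓ N b)).hom (η a b : Γ(Y, N a ⊓ N b))) •
        res (L i) (hr' i a b) (G i b) := by
    intro i a b
    rw [hη_eq]
    exact hr_eq i a b
  exact exists_descent_family f L N hN G hGgen η hη_coc hcompat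

theorem fun_eq_of_eq_bot {X : Scheme.{u}} {P : X.Opens} (hP : P = ⊥) (a b : Γ(X, P)) :
    a = b := by
  subst hP
  exact Subsingleton.elim a b

theorem mem_iInf_opens {α ι : Type*} [TopologicalSpace α] [Finite ι] (U : ι → Opens α) (x : α) :
    x ∈ (⨅ i, U i : Opens α) ↔ ∀ i, x ∈ U i := by
  have h := Opens.coe_iInf U
  constructor
  · intro hx i
    have h1 : x ∈ ((⨅ i, U i : Opens α) : Set α) := hx
    rw [h] at h1
    exact Set.mem_iInter.mp h1 i
  · intro hx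
    have h1 : x ∈ ⋂ i, (U i : Set α) := Set.mem_iInter.mpr hx
    rw [← h] at h1
    exact h1

section ClosedCover

variable (X : Scheme.{u}) [IsReduced X] {n : ℕ} (Z : Fin n → X.IdealSheafData)
  (hcov : ∀ x : X, ∃ i, x ∈ ((Z i).support : Set X))

include hcov in
theorem jb_inj (W : X.Opens) (y y' : Γ(X, W))
    (h : ∀ i, ((Z i).subschemeι.app W).hom y = ((Z i).subschemeι.app W).hom y') : y = y' := by
  rw [← sub_eq_zero]
  apply eq_zero_of_basicOpen_eq_bot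
  rw [eq_bot_iff]
  intro x hx
  obtain ⟨i, hi⟩ := hcov x
  have hr : x ∈ Set.range (Z i).subschemeι := by
    rw [Scheme.IdealSheafData.range_subschemeι]
    exact hi
  obtain ⟨z, rfl⟩ := hr
  have h1 : z ∈ (Z i).subschemeι ⁻¹ᵁ X.basicOpen (y - y') := hx
  rw [Scheme.preimage_basicOpen] at h1
  have h2 : ((Z i).subschemeι.app W).hom (y - y') = 0 := by rw [map_sub, h i, sub_self]
  have h1' : z ∈ (Z i).subscheme.basicOpen (((Z i).subschemeι.app W).hom (y - y')) := h1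
  rw [h2, Scheme.basicOpen_zero] at h1'
  exact False.elim h1'

include hcov in
theorem jb_surj (W : X.Opens)
    (hW : ∀ z ∈ W, ∀ i j, i ≠ j → z ∈ ((Z i).support : Set X) → z ∉ ((Z j).support : Set X))
    (r : ∀ i, Γ((Z i).subscheme, (Z i).subschemeι ⁻¹ᵁ W)) :
    ∃ y : Γ(X, W), ∀ i, ((Z i).subschemeι.app W).hom y = r i := by
  classical
  have hloc : ∀ x : ↥W, ∃ (W' : X.Opens) (hW' : W' ≤ W) (y' : Γ(X, W')), x.1 ∈ W' ∧
      ∀ i, ((Z i).subschemeι.app W').hom y' =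
        rres (Z i).subscheme ((Z i).subschemeι.preimage_mono hW') (r i) := by
    rintro ⟨x, hx⟩
    obtain ⟨i₀, hi₀⟩ := hcov x
    have hcl : IsClosed (⋃ j ∈ (Finset.univ.erase i₀ : Finset (Fin n)),
        ((Z j).support : Set X)) :=
      isClosed_biUnion_finset (fun j _ => (Z j).support.isClosed)
    let O : X.Opens := ⟨(⋃ j ∈ (Finset.univ.erase i₀ : Finset (Fin n)),
      ((Z j).support : Set X))ᶜ, hcl.isOpen_compl⟩
    have hxO : x ∈ O := by
      show x ∉ ⋃ j ∈ (Finset.univ.erase i₀ : Finset (Fin n)), ((Z j).support : Set X)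
      intro hmem
      obtain ⟨j, hj, hxj⟩ := Set.mem_iUnion₂.mp hmem
      exact hW x hx i₀ j (Finset.ne_of_mem_erase hj).symm hi₀ hxj
    obtain ⟨W', hW'a, hxW', hW'le⟩ := exists_affine_le x (W ⊓ O) ⟨hx, hxO⟩
    have hW'W : W' ≤ W := hW'le.trans inf_le_left
    obtain ⟨y', hy'⟩ := (Z i₀).subschemeι.app_surjective W' hW'a
      (rres _ ((Z i₀).subschemeι.preimage_mono hW'W) (r i₀))
    refine ⟨W', hW'W, y', hxW', fun i => ?_⟩
    by_cases hi : i = i₀
    · subst hi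
      exact hy'
    · have hbot : (Z i).subschemeι ⁻¹ᵁ W' = ⊥ := by
        rw [eq_bot_iff]
        intro z hz
        have h1 : (Z i).subschemeι z ∈ O := (hW'le hz).2
        apply h1
        refine Set.mem_iUnion₂.mpr ⟨i, Finset.mem_erase.mpr ⟨hi, Finset.mem_univ _⟩, ?_⟩
        rw [← Scheme.IdealSheafData.range_subschemeι]
        exact ⟨z, rfl⟩
      exact fun_eq_of_eq_bot hbot _ _
  choose W' hW' y' hxW' hy' using hloc
  have hcovW : W ≤ ⨆ x : ↥W, W' x := by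
    intro x hx
    exact Opens.mem_iSup.mpr ⟨⟨x, hx⟩, hxW' ⟨x, hx⟩⟩
  obtain ⟨y, hy⟩ := fun_glue W' W hW' hcovW y' (by
    intro x x'
    apply jb_inj X Z hcov
    intro i
    rw [app_rres, app_rres, hy' x i, hy' x' i, rres_rres, rres_rres])
  refine ⟨y, fun i => ?_⟩
  apply fun_eq_of_locally_eq (fun x : ↥W => (Z i).subschemeι ⁻¹ᵁ W' x)
    ((Z i).subschemeι ⁻¹ᵁ W) (fun x => (Z i).subschemeι.preimage_mono (hW' x))
    (by
      intro z hz
      obtain ⟨x, hx⟩ := Opens.mem_iSup.mp (hcovW hz)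
      exact Opens.mem_iSup.mpr ⟨x, hx⟩)
  intro x
  rw [← app_rres (Z i).subschemeι (hW' x), hy x, hy' x i]

end ClosedCover

/-- S7670: invertible modules on a closed cover with discrete pairwise intersections glue. -/
theorem main_closedCover (X : Scheme.{u}) [IsReduced X] (n : ℕ) (Z : Fin n → X.IdealSheafData)
    (hcov : ⋃ i, ((Z i).support : Set X) = Set.univ)
    (hdisc : ∀ i j, i ≠ j →
      DiscreteTopology ↥(((Z i).support : Set X) ∩ ((Z j).support : Set X)))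
    (L : ∀ i, (Z i).subscheme.Modules) (hL : ∀ i, PicF.IsInvertible (L i)) :
    ∃ M : X.Modules, PicF.IsInvertible M ∧
      ∀ i, Nonempty ((Scheme.Modules.pullback (Z i).subschemeι).obj M ≅ L i) := by
  classical
  have hcov' : ∀ x : X, ∃ i, x ∈ ((Z i).support : Set X) := by
    intro x
    have hx : x ∈ ⋃ i, ((Z i).support : Set X) := by rw [hcov]; trivial
    exact Set.mem_iUnion.mp hx
  have hO : ∀ (x : X) (i j : Fin n), ∃ O : X.Opens, x ∈ O ∧ (i ≠ j → ∀ z ∈ O,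
      z ∈ ((Z i).support : Set X) → z ∈ ((Z j).support : Set X) → z = x) := by
    intro x i j
    by_cases hij : i = j
    · exact ⟨⊤, trivial, fun h => (h hij).elim⟩
    · by_cases hx : x ∈ ((Z i).support : Set X) ∩ ((Z j).support : Set X)
      · haveI := hdisc i j hij
        obtain ⟨W₀, hW₀, hW₀x⟩ : ∃ W₀ : Set X, IsOpen W₀ ∧ Subtype.val ⁻¹' W₀ =
            ({⟨x, hx⟩} : Set ↥(((Z i).support : Set X) ∩ ((Z j).support : Set X))) :=
          isOpen_induced_iff.mp (isOpen_discrete _)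
        refine ⟨⟨W₀, hW₀⟩, ?_, fun _ z hz hzi hzj => ?_⟩
        · have h0 : (⟨x, hx⟩ : ↥(((Z i).support : Set X) ∩ ((Z j).support : Set X))) ∈
              Subtype.val ⁻¹' W₀ := by
            rw [hW₀x]
            rfl
          exact h0
        · have h0 : (⟨z, ⟨hzi, hzj⟩⟩ : ↥(((Z i).support : Set X) ∩ ((Z j).support : Set X))) ∈
              Subtype.val ⁻¹' W₀ := hz
          rw [hW₀x] at h0
          exact congrArg Subtype.val (Set.mem_singleton_iff.mp h0)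
      · have hcl : IsClosed (((Z i).support : Set X) ∩ ((Z j).support : Set X)) :=
          ((Z i).support.isClosed).inter ((Z j).support.isClosed)
        exact ⟨⟨(((Z i).support : Set X) ∩ ((Z j).support : Set X))ᶜ, hcl.isOpen_compl⟩, hx,
          fun _ z hz hzi hzj => (hz ⟨hzi, hzj⟩).elim⟩
  have hchart : ∀ x : X, ∃ N : X.Opens, x ∈ N ∧
      (∀ i, ∃ γ : Γ(L i, (Z i).subschemeι ⁻¹ᵁ N), IsGen (L i) ((Z i).subschemeι ⁻¹ᵁ N) γ) ∧
      (∀ z ∈ N, ∀ i j, i ≠ j → z ∈ ((Z i).support : Set X) →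
        z ∈ ((Z j).support : Set X) → z = x) := by
    intro x
    have h1 : ∀ i, ∃ (P : X.Opens) (γ : Γ(L i, (Z i).subschemeι ⁻¹ᵁ P)), x ∈ P ∧
        IsGen (L i) ((Z i).subschemeι ⁻¹ᵁ P) γ := fun i =>
      exists_nhd_isGen_of_subsingleton (Z i).subschemeι
        (Z i).subschemeι.isClosedEmbedding.isClosedMap (hL i) x
        (fun z z' hz hz' => (Z i).subschemeι.isClosedEmbedding.injective (hz.trans hz'.symm))
    choose P γ hxP hγ using h1
    choose O hxO hO' using hO x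
    let N : X.Opens := (⨅ i, P i) ⊓ (⨅ p : Fin n × Fin n, O p.1 p.2)
    have hNP : ∀ i, N ≤ P i := fun i => inf_le_left.trans (iInf_le P i)
    have hNO : ∀ i j, N ≤ O i j := fun i j =>
      inf_le_right.trans (iInf_le (fun p : Fin n × Fin n => O p.1 p.2) (i, j))
    refine ⟨N, ⟨(mem_iInf_opens _ _).mpr hxP, (mem_iInf_opens _ _).mpr (fun p => hxO p.1 p.2)⟩,
      fun i => ⟨res (L i) ((Z i).subschemeι.preimage_mono (hNP i)) (γ i),
        (hγ i).mono ((Z i).subschemeι.preimage_mono (hNP i))⟩,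
      fun z hz i j hij hzi hzj => hO' i j hij z (hNO i j hz) hzi hzj⟩
  choose N hxN hgen hisoN using hchart
  choose γ hγ using hgen
  have hcovN : iSup N = ⊤ := by
    rw [eq_top_iff]
    intro x _
    exact Opens.mem_iSup.mpr ⟨x, hxN x⟩
  apply exists_descent_of_charts_family (fun i => (Z i).subschemeι) L N hcovN
    (fun i x => γ x i) (fun i x => hγ x i) (jb_inj X Z hcov')
  intro a b
  by_cases hab : a = b
  · exact Or.inl hab
  · right
    apply jb_surj X Z hcov'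
    intro z hz i j hij hzi hzj
    exact hab ((hisoN a z hz.1 i j hij hzi hzj).symm.trans (hisoN b z hz.2 i j hij hzi hzj))

end H16PicDesc
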