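import Mathlib
import Groth.Agent.Lib.Helper16.PicDesc.Charts
import Groth.Agent.Lib.Helper13.AcyclicEmbed
import Groth.Agent.Lib.Helper3.GlobGen

/-!
# Affine opens with finite one-dimensional complement are loci of sections (helper16)
-/

set_option autoImplicit false
set_option linter.style.haveILetI false
set_option linter.unusedSectionVars false
universe u
open CategoryTheory CategoryTheory.Limits AlgebraicGeometry TopologicalSpace Opposite
open Scheme.Modules Topology

namespace H16PicDesc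

open Groth.Agent.Lib.Helper3 Groth.Agent.Lib.Helper3.QCSec Groth.Agent.Lib.Helper3.InvGen
open Groth.Agent.Lib.Helper26 Groth.Agent.Lib.Helper26.DiscExt

variable {X : Scheme.{u}}

/-- The ring of an affine chart modulo a function vanishing at a single point with Noetherian
local ring has finite length. -/
theorem length_quot_ne_top' {P : X.Opens} (hP : IsAffineOpen P)
    (h : Γ(X, P)) (x : X) (hxP : x ∈ P) [IsNoetherianRing (X.presheaf.stalk x)]
    (hone : ∀ z ∈ P, z ∉ X.basicOpen h → z = x) :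
    Module.length Γ(X, P) (Γ(X, P) ⧸ Ideal.span {h}) ≠ ⊤ := by
  have key : ∀ (𝔭 : PrimeSpectrum Γ(X, P)), h ∈ 𝔭.asIdeal → hP.fromSpec 𝔭 = x := by
    intro 𝔭 hmem
    have h1 : hP.fromSpec 𝔭 ∈ P := by
      have h0 : hP.fromSpec 𝔭 ∈ Set.range hP.fromSpec := ⟨𝔭, rfl⟩
      rwa [hP.range_fromSpec] at h0
    apply hone _ h1
    intro h2
    have h3 : 𝔭 ∈ hP.fromSpec ⁻¹ᵁ X.basicOpen h := h2
    rw [hP.fromSpec_preimage_basicOpen] at h3
    exact h3 hmem
  have h𝔭₀x : hP.fromSpec (hP.primeIdealOf ⟨x, hxP⟩) = x := hP.fromSpec_primeIdealOf ⟨x, hxP⟩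
  have huniq' : ∀ 𝔮 : Ideal Γ(X, P), 𝔮.IsPrime → h ∈ 𝔮 →
      𝔮 = (hP.primeIdealOf ⟨x, hxP⟩).asIdeal := by
    intro 𝔮 h𝔮 hh
    have e := hP.fromSpec.isOpenEmbedding.injective ((key ⟨𝔮, h𝔮⟩ hh).trans h𝔭₀x.symm)
    exact congrArg PrimeSpectrum.asIdeal e
  have hcm : ∀ J : Ideal (Γ(X, P) ⧸ Ideal.span {h}),
      h ∈ J.comap (Ideal.Quotient.mk (Ideal.span {h})) := fun J => by
    rw [Ideal.mem_comap, Ideal.Quotient.eq_zero_iff_mem.mpr (Ideal.mem_span_singleton_self h)]
    exact J.zero_mem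
  haveI : Ring.KrullDimLE 0 (Γ(X, P) ⧸ Ideal.span {h}) := by
    rw [Ring.krullDimLE_zero_iff]
    intro I hI
    obtain ⟨𝔐, h𝔐, hI𝔐⟩ := Ideal.exists_le_maximal I hI.ne_top
    haveI := h𝔐.isPrime
    have e := (huniq' _ (Ideal.comap_isPrime _ I) (hcm I)).trans
      (huniq' _ (Ideal.comap_isPrime _ 𝔐) (hcm 𝔐)).symm
    have e' : I = 𝔐 := Ideal.comap_injective_of_surjective _ Ideal.Quotient.mk_surjective e
    rw [e']
    exact h𝔐
  letI : Algebra Γ(X, P) (X.presheaf.stalk x) :=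
    TopCat.Presheaf.algebra_section_stalk X.presheaf ⟨x, hxP⟩
  haveI hloc : IsLocalization.AtPrime (X.presheaf.stalk x)
      (hP.primeIdealOf ⟨x, hxP⟩).asIdeal := hP.isLocalization_stalk ⟨x, hxP⟩
  have hunit : ∀ s : (hP.primeIdealOf ⟨x, hxP⟩).asIdeal.primeCompl,
      IsUnit (Ideal.Quotient.mk (Ideal.span {h}) (s : Γ(X, P))) := by
    intro s
    by_contra hs
    obtain ⟨𝔐, h𝔐, hs𝔐⟩ := exists_max_ideal_of_mem_nonunits hs
    haveI := h𝔐.isPrime
    have e := huniq' _ (Ideal.comap_isPrime (Ideal.Quotient.mk (Ideal.span {h})) 𝔐) (hcm 𝔐)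
    have hmem : (s : Γ(X, P)) ∈ (hP.primeIdealOf ⟨x, hxP⟩).asIdeal :=
      e.le hs𝔐
    exact s.2 hmem
  have hsurj : Function.Surjective
      (IsLocalization.lift (M := (hP.primeIdealOf ⟨x, hxP⟩).asIdeal.primeCompl)
        (S := X.presheaf.stalk x) (g := Ideal.Quotient.mk (Ideal.span {h})) hunit) := by
    intro b
    obtain ⟨a, rfl⟩ := Ideal.Quotient.mk_surjective b
    exact ⟨algebraMap _ _ a, IsLocalization.lift_eq hunit a⟩
  haveI : IsNoetherianRing (Γ(X, P) ⧸ Ideal.span {h}) :=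
    isNoetherianRing_of_surjective _ _ _ hsurj
  haveI : IsArtinianRing (Γ(X, P) ⧸ Ideal.span {h}) :=
    IsNoetherianRing.isArtinianRing_of_krullDimLE_zero
  have h1 : Module.length (Γ(X, P) ⧸ Ideal.span {h}) (Γ(X, P) ⧸ Ideal.span {h}) ≠ ⊤ :=
    Module.length_ne_top
  rwa [← Module.length_eq_of_surjective (S := Γ(X, P)) (R := Γ(X, P) ⧸ Ideal.span {h})
    (M := Γ(X, P) ⧸ Ideal.span {h}) Ideal.Quotient.mk_surjective] at h1

/-- The core construction: an affine open whose complement is a finite set of points with charts is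
the non-vanishing locus `X_s` of a section of an invertible module having a second section `s'`
that generates at all points of the complement. -/
theorem exists_two_sections_of_affine' [X.IsSeparated] (U : X.Opens)
    (hU : IsAffineOpen U) {𝒞 : Type u} [Finite 𝒞] (pt : 𝒞 → X) (P : 𝒞 → X.Opens)
    (h : ∀ c, Γ(X, P c)) (hP : ∀ c, IsAffineOpen (P c)) (hpt : ∀ c, pt c ∈ P c)
    (hptU : ∀ c, pt c ∉ U) (hPh : ∀ c, X.basicOpen (h c) = P c ⊓ U)
    (hone : ∀ c, ∀ z ∈ P c, z ∉ U → z = pt c)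
    (hcov : ∀ x : X, x ∈ U ∨ ∃ c, x = pt c) (hinj : Function.Injective pt)
    (hfin : ∀ c, Module.length Γ(X, P c) (Γ(X, P c) ⧸ Ideal.span {h c}) ≠ ⊤) :
    ∃ (L : X.Modules) (s s' : Coh.structureModule X ⟶ L),
      PicF.IsInvertible L ∧ CohB1.genLocus L s = U ∧ ∀ x, x ∉ U → x ∈ CohB1.genLocus L s' := by
  classical
  have hle : ∀ c, X.basicOpen (h c) ≤ U := fun c => (hPh c).le.trans inf_le_right
  let φ : ∀ c, Γ(X, U) →+* Γ(X, X.basicOpen (h c)) := fun c =>
    (X.presheaf.map (homOfLE (hle c)).op).hom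
  haveI : ∀ c, IsLocalization.Away (h c) Γ(X, X.basicOpen (h c)) := fun c =>
    (hP c).isLocalization_basicOpen (h c)
  have hgen : ∀ c, Algebra.adjoin Γ(X, P c) (Set.range (φ c)) = ⊤ := by
    intro c
    have hcl := SepGen.closure_res_eq_top hU (hP c) (hle c) (X.basicOpen_le (h c))
      (by rw [hPh c, inf_comm])
    rw [eq_top_iff]
    rintro z -
    have hz : z ∈ Subring.closure
        (Set.range (X.presheaf.map (homOfLE (hle c)).op).hom ∪
          Set.range (X.presheaf.map (homOfLE (X.basicOpen_le (h c))).op).hom) := by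
      rw [hcl]
      trivial
    have hsub : Subring.closure
        (Set.range (X.presheaf.map (homOfLE (hle c)).op).hom ∪
          Set.range (X.presheaf.map (homOfLE (X.basicOpen_le (h c))).op).hom) ≤
        (Algebra.adjoin Γ(X, P c) (Set.range (φ c))).toSubring := by
      rw [Subring.closure_le]
      rintro w (⟨a, rfl⟩ | ⟨a, rfl⟩)
      · exact Algebra.subset_adjoin ⟨a, rfl⟩
      · exact Subalgebra.algebraMap_mem _ a
    exact hsub hz
  obtain ⟨f, u, σ, hu, hσ, hrel⟩ := TotalPole.exists_total_pole (A := Γ(X, U))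
    (B := fun c => Γ(X, P c)) (C := fun c => Γ(X, X.basicOpen (h c))) φ h hfin hgen
  have hgerm_h : ∀ c, X.presheaf.germ (P c) (pt c) (hpt c) (h c) ∈
      IsLocalRing.maximalIdeal (X.presheaf.stalk (pt c)) := by
    intro c
    rw [IsLocalRing.mem_maximalIdeal, mem_nonunits_iff]
    intro hunit
    have h1 : pt c ∈ X.basicOpen (h c) := (X.mem_basicOpen (h c) (pt c) (hpt c)).mpr hunit
    rw [hPh c] at h1
    exact hptU c h1.2
  have hgerm_mem : ∀ c (a : Γ(X, P c)), a ∈ Ideal.span {h c} →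
      X.presheaf.germ (P c) (pt c) (hpt c) a ∈
        IsLocalRing.maximalIdeal (X.presheaf.stalk (pt c)) := by
    intro c a ha
    obtain ⟨r, rfl⟩ := Ideal.mem_span_singleton'.mp ha
    rw [map_mul]
    exact Ideal.mul_mem_left _ _ (hgerm_h c)
  let P' : 𝒞 → X.Opens := fun c => X.basicOpen (σ c)
  have hP'P : ∀ c, P' c ≤ P c := fun c => X.basicOpen_le (σ c)
  have hptP' : ∀ c, pt c ∈ P' c := by
    intro c
    refine (X.mem_basicOpen (σ c) (pt c) (hpt c)).mpr ?_
    have h1 := hgerm_mem c _ (hσ c)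
    rw [map_sub, map_one] at h1
    have h3 : (1 - X.presheaf.germ (P c) (pt c) (hpt c) (σ c)) ∈
        nonunits (X.presheaf.stalk (pt c)) := by
      rw [← IsLocalRing.mem_maximalIdeal]
      have h2 := (Ideal.neg_mem_iff _).mpr h1
      rwa [neg_sub] at h2
    have h4 := IsLocalRing.isUnit_one_sub_self_of_mem_nonunits _ h3
    rwa [sub_sub_cancel] at h4
  have hσu : ∀ c, IsUnit (rres X (hP'P c) (σ c)) := fun c =>
    X.toRingedSpace.isUnit_res_basicOpen (σ c)
  let g : ∀ c, Γ(X, P' c) := fun c =>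
    rres X (hP'P c) (u c) * (((hσu c).unit⁻¹ : (Γ(X, P' c))ˣ) : Γ(X, P' c))
  have hfg : ∀ c, rres X (inf_le_right : P' c ⊓ U ≤ U) f *
      rres X (inf_le_left : P' c ⊓ U ≤ P' c) (g c) = 1 := by
    intro c
    have hWD : P' c ⊓ U ≤ X.basicOpen (h c) := by
      rw [hPh c]
      exact inf_le_inf_right U (hP'P c)
    have h1 := congrArg (rres X hWD) (hrel c)
    change rres X hWD (rres X (hle c) f * rres X (X.basicOpen_le (h c)) (u c)) =
      rres X hWD (rres X (X.basicOpen_le (h c)) (σ c)) at h1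
    rw [rres_mul, rres_rres, rres_rres, rres_rres] at h1
    have h2 : rres X (inf_le_left : P' c ⊓ U ≤ P' c) (g c) =
        rres X ((inf_le_left : P' c ⊓ U ≤ P' c).trans (hP'P c)) (u c) *
          rres X (inf_le_left : P' c ⊓ U ≤ P' c)
            (((hσu c).unit⁻¹ : (Γ(X, P' c))ˣ) : Γ(X, P' c)) := by
      show rres X _ (rres X (hP'P c) (u c) * _) = _
      rw [rres_mul, rres_rres]
    have h3 : rres X (inf_le_left : P' c ⊓ U ≤ P' c)
        (((hσu c).unit⁻¹ : (Γ(X, P' c))ˣ) : Γ(X, P' c)) *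
          rres X ((inf_le_left : P' c ⊓ U ≤ P' c).trans (hP'P c)) (σ c) = 1 := by
      have h0 : (((hσu c).unit⁻¹ : (Γ(X, P' c))ˣ) : Γ(X, P' c)) * rres X (hP'P c) (σ c) = 1 :=
        IsUnit.val_inv_mul (hσu c)
      have h00 := congrArg (rres X (inf_le_left : P' c ⊓ U ≤ P' c)) h0
      rwa [rres_mul, rres_rres, rres_one] at h00
    rw [h2, ← mul_assoc, h1, mul_comm, h3]
  have hPg : ∀ c, X.basicOpen (g c) = P' c ⊓ U := by
    intro c
    apply le_antisymm
    · intro z hz
      have hzP' : z ∈ P' c := X.basicOpen_le (g c) hz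
      refine ⟨hzP', ?_⟩
      by_contra hzU
      have hzpt : z = pt c := hone c z (hP'P c hzP') hzU
      subst hzpt
      have h1 := (X.mem_basicOpen (g c) (pt c) (hptP' c)).mp hz
      rw [map_mul] at h1
      have h2 : X.presheaf.germ (P' c) (pt c) (hptP' c) (rres X (hP'P c) (u c)) =
          X.presheaf.germ (P c) (pt c) (hpt c) (u c) :=
        TopCat.Presheaf.germ_res_apply X.presheaf (homOfLE (hP'P c)) (pt c) (hptP' c) (u c)
      rw [h2] at h1
      have h3 := hgerm_mem c _ (hu c)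
      exact (IsLocalRing.mem_maximalIdeal _).mp h3 (isUnit_of_mul_isUnit_left h1)
    · intro z hz
      have hW : P' c ⊓ U ≤ P' c := inf_le_left
      have hunit : IsUnit (rres X hW (g c)) :=
        IsUnit.of_mul_eq_one _ (by rw [mul_comm]; exact hfg c)
      have h1 : X.basicOpen (rres X hW (g c)) = (P' c ⊓ U) ⊓ X.basicOpen (g c) :=
        Scheme.basicOpen_res X (g c) (homOfLE hW).op
      rw [X.basicOpen_of_isUnit hunit] at h1
      have h2 : z ∈ (P' c ⊓ U) ⊓ X.basicOpen (g c) := h1 ▸ hz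
      exact h2.2
  have hcov' : ∀ x : X, x ∈ U ∨ ∃ c, x ∈ P' c := by
    intro x
    rcases hcov x with hx | ⟨c, rfl⟩
    · exact Or.inl hx
    · exact Or.inr ⟨c, hptP' c⟩
  have hpair' : ∀ c c', c ≠ c' → P' c ⊓ P' c' ≤ U := by
    rintro c c' hcc' z ⟨hz, hz'⟩
    by_contra hzU
    exact hcc' (hinj ((hone c z (hP'P c hz) hzU).symm.trans (hone c' z (hP'P c' hz') hzU)))
  obtain ⟨L, s, s', hL, hs, hs'⟩ :=
    TwoSec.exists_two_sections U P' g hPg hcov' hpair' f hfg
  refine ⟨L, s, s', hL, hs, fun x hx => ?_⟩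
  rcases hcov x with hxU | ⟨c, rfl⟩
  · exact (hx hxU).elim
  · exact hs' c (hptP' c)

/-- In an integral scheme, a point outside a nonempty open whose proper specialisations all have
one-dimensional local rings is closed. -/
theorem isClosed_singleton_of_not_mem [IsIntegral X] (U : X.Opens) (hne : (U : Set X).Nonempty)
    (hdim : ∀ x : X, x ∉ U → ringKrullDim (X.presheaf.stalk x) ≤ 1) (z : X) (hz : z ∉ U) :
    IsClosed ({z} : Set X) := by
  have hηU : genericPoint X ∈ U := by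
    obtain ⟨w, hw⟩ := hne
    exact (genericPoint_specializes w).mem_open U.isOpen hw
  have hηz : genericPoint X ⤳ z := genericPoint_specializes z
  have hne' : genericPoint X ≠ z := fun e => hz (e ▸ hηU)
  rw [← closure_subset_iff_isClosed]
  intro y hy
  by_contra hyz
  have hyz' : y ≠ z := hyz
  have hzy : z ⤳ y := specializes_iff_mem_closure.mpr hy
  have hyU : y ∉ U := fun hyU => hz (hzy.mem_open U.isOpen hyU)
  have h1 : z < genericPoint X := by
    refine lt_of_le_not_ge (Scheme.le_iff_specializes.mpr hηz) (fun h => ?_)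
    have h2 : z ⤳ genericPoint X := Scheme.le_iff_specializes.mp h
    exact hne' ((h2.antisymm hηz).eq).symm
  have h2 : y < z := by
    refine lt_of_le_not_ge (Scheme.le_iff_specializes.mpr hzy) (fun h => ?_)
    have h3 : y ⤳ z := Scheme.le_iff_specializes.mp h
    exact hyz' ((h3.antisymm hzy).eq)
  have h3 := Order.coheight_add_one_le h1
  have h4 := Order.coheight_add_one_le h2
  have h5 : (2 : ℕ∞) ≤ Order.coheight y := by
    calc (2 : ℕ∞) = 0 + 1 + 1 := by norm_num
      _ ≤ Order.coheight (genericPoint X) + 1 + 1 := by gcongr; exact zero_le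
      _ ≤ Order.coheight z + 1 := by gcongr
      _ ≤ Order.coheight y := h4
  have h6 := hdim y hyU
  rw [ringKrullDim_stalk_eq_coheight] at h6
  have h7 : Order.coheight y ≤ (1 : ℕ∞) := by exact_mod_cast h6
  exact absurd (h5.trans h7) (by decide)

/-- **S1645.** -/
theorem main_genLocus (X : Scheme.{u}) [IsIntegral X] [X.IsSeparated]
    (U : X.Opens) (hU : IsAffineOpen U) (hne : (U : Set X).Nonempty) (hfin : ((U : Set X)ᶜ).Finite)
    (hloc : ∀ x : X, x ∉ U → IsNoetherianRing (X.presheaf.stalk x) ∧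
      ringKrullDim (X.presheaf.stalk x) = 1) :
    ∃ (L : X.Modules) (s : Coh.structureModule X ⟶ L), PicF.IsInvertible L ∧
      Curv2.IsGloballyGenerated L ∧ CohB1.genLocus L s = U := by
  classical
  haveI : IsAffineHom U.ι :=
    Groth.Agent.Lib.Helper13.AcyclicEmbed.isAffineHom_ι (fun V W hV hW => hV.inf hW) hU
  haveI : QuasiCompact U.ι := inferInstance
  have hclosed : ∀ z, z ∉ U → IsClosed ({z} : Set X) := fun z hz =>
    isClosed_singleton_of_not_mem U hne (fun x hx => (hloc x hx).2.le) z hz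
  have hpts : ∀ t : ↥((U : Set X)ᶜ), IsClosed ({t} : Set ↥((U : Set X)ᶜ)) := by
    intro t
    have h1 : IsClosed ((Subtype.val : ↥((U : Set X)ᶜ) → X) ⁻¹' {t.1}) :=
      (hclosed t.1 t.2).preimage continuous_subtype_val
    convert h1 using 1
    ext w
    simp [Subtype.ext_iff]
  haveI : Finite ↥((U : Set X)ᶜ) := hfin.to_subtype
  haveI : T1Space ↥((U : Set X)ᶜ) := ⟨hpts⟩
  have hdisc : DiscreteTopology ↥((U : Set X)ᶜ) := inferInstance
  have hchart : ∀ c : ↥((U : Set X)ᶜ), ∃ (P : X.Opens) (h : Γ(X, P)), IsAffineOpen P ∧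
      c.1 ∈ P ∧ X.basicOpen h = P ⊓ U ∧ ∀ z ∈ P, z ∉ U → z = c.1 := fun c => by
    haveI := (hloc c.1 c.2).1
    exact exists_chart U hdisc c.1 c.2 (hloc c.1 c.2).2.le
  choose P h hP hcP hPh hone using hchart
  have hlen : ∀ c : ↥((U : Set X)ᶜ),
      Module.length Γ(X, P c) (Γ(X, P c) ⧸ Ideal.span {h c}) ≠ ⊤ := by
    intro c
    haveI := (hloc c.1 c.2).1
    apply length_quot_ne_top' (hP c) (h c) c.1 (hcP c)
    intro z hzP hz
    apply hone c z hzP
    intro hzU
    exact hz ((hPh c).ge ⟨hzP, hzU⟩)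
  obtain ⟨L, s, s', hL, hs, hs'⟩ := exists_two_sections_of_affine' U hU
    (fun c : ↥((U : Set X)ᶜ) => c.1) P h hP hcP (fun c => c.2) hPh hone
    (fun z => by
      by_cases hz : z ∈ U
      · exact Or.inl hz
      · exact Or.inr ⟨⟨z, hz⟩, rfl⟩) Subtype.val_injective hlen
  refine ⟨L, s, hL, ?_, hs⟩
  haveI := InvCoh.isQuasicoherent_of_isInvertible hL
  have hspan : ∀ (t : Coh.structureModule X ⟶ L) (x : X), x ∈ CohB1.genLocus L t →
      ∃ W : X.Opens, IsAffineOpen W ∧ x ∈ W ∧ ∀ m : Γ(L, W), ∃ a : Γ(X, W),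
        a • res L (le_top : W ≤ ⊤) (sec t ⊤) = m := by
    intro t x hx
    obtain ⟨W, hW, hxW, hWle⟩ := exists_affine_le x _ hx
    refine ⟨W, hW, hxW, fun m => ?_⟩
    have hg : IsGen L W (sec t W) := isGen_sec_of_le t hWle
    rw [res_sec]
    exact hg.self.exists_coord m
  refine GlobGen.isGloballyGenerated_of_span L
    (fun b : ULift.{u} Bool => if b.down then sec s ⊤ else sec s' ⊤) (fun x => ?_)
  by_cases hx : x ∈ U
  · obtain ⟨W, hW, hxW, hco⟩ := hspan s x (by rw [hs]; exact hx)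
    refine ⟨W, hW, hxW, ?_⟩
    rw [eq_top_iff]
    rintro m -
    obtain ⟨a, rfl⟩ := hco m
    exact Submodule.smul_mem _ a (Submodule.subset_span ⟨⟨true⟩, by simp⟩)
  · obtain ⟨W, hW, hxW, hco⟩ := hspan s' x (hs' x hx)
    refine ⟨W, hW, hxW, ?_⟩
    rw [eq_top_iff]
    rintro m -
    obtain ⟨a, rfl⟩ := hco m
    exact Submodule.smul_mem _ a (Submodule.subset_span ⟨⟨false⟩, by simp⟩)

/-- The complement of a nonempty open of an integral scheme with Noetherian space, all of whose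
points have local rings of dimension at most one, is discrete. -/
theorem discrete_compl_of_integral [IsIntegral X] [NoetherianSpace X] (V : X.Opens)
    (hne : (V : Set X).Nonempty)
    (hdim : ∀ x : X, x ∉ V → ringKrullDim (X.presheaf.stalk x) ≤ 1) :
    DiscreteTopology ↥((V : Set X)ᶜ) := by
  have hclosed : ∀ z, z ∉ V → IsClosed ({z} : Set X) := fun z hz =>
    isClosed_singleton_of_not_mem V hne hdim z hz
  have hZcl : IsClosed ((V : Set X)ᶜ) := V.isOpen.isClosed_compl
  haveI : QuasiSober ↥((V : Set X)ᶜ) := hZcl.isClosedEmbedding_subtypeVal.quasiSober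
  have hpts : ∀ t : ↥((V : Set X)ᶜ), IsClosed ({t} : Set ↥((V : Set X)ᶜ)) := by
    intro t
    have h1 : IsClosed ((Subtype.val : ↥((V : Set X)ᶜ) → X) ⁻¹' {t.1}) :=
      (hclosed t.1 t.2).preimage continuous_subtype_val
    convert h1 using 1
    ext w
    simp [Subtype.ext_iff]
  haveI : Finite ↥((V : Set X)ᶜ) := AmpleCurve.finite_of_isClosed_singleton hpts
  haveI : T1Space ↥((V : Set X)ᶜ) := ⟨hpts⟩
  exact inferInstance

end H16PicDesc
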